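import Groth.Prelude.Def_W4bk5brsh16IT
import Groth.Agent.Localalg.LCFam
import Groth.Agent.Localalg.LCInst

/-!
# The ideal transform `D_I = colim_n Hom(I^n, -)` and its derived functors

* `K165.DT.ι I n M : (I^n →ₗ M) →ₗ D_I(M)`, `exists_ι`, `ι_eq_zero`, `ι_res`, `ι_map`, `toDT_eq`.
* `K165.DT.FT I n` : the functors `D_I` (`n = 0`), `colim Ext^n(I^k, -)` (`n ≥ 1`), with the comparison
  data `cFT I n : LCData (powX I) n (FT I n)`; so everything in `Localalg.LCFam` applies.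
* `K165.DT.delta I` : the delta functor, effaceable.
-/

set_option autoImplicit false
universe u

open CategoryTheory Limits Opposite
open Groth.Agent.Localalg.LCData Groth.Agent.Localalg.DeltaFun

namespace K165.DT

variable {R : Type u} [CommRing R]

/-- The pro-system `n ↦ I^n` of modules. -/
noncomputable abbrev powX (I : Ideal R) : ℕᵒᵖ ⥤ ModuleCat.{u} R :=
  localCohomology.idealPowersDiagram I ⋙ LocCoh.idealModFunctor

/-- `D_I` as a colimit. -/
noncomputable def colDT (I : Ideal R) :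
    ColimData (powX I) (linearCoyoneda R (ModuleCat.{u} R)) (LocCoh.idealTransform I) :=
  colimData (powX I) _ (fun _ => preservesColimit_forget₀ R _)

/-- Comparison data for `D_I`. -/
noncomputable def cDT (I : Ideal R) : LCData (powX I) 0 (LocCoh.idealTransform I) :=
  LCData.ofColimData (powX I) 0 (linearCoyoneda R (ModuleCat.{u} R))
    (fun Z M => (Abelian.Ext.linearEquiv₀ (R := R) (X := Z) (Y := M)).symm)
    (fun Z _ _ g a => by
      change Abelian.Ext.mk₀ _ = (Abelian.Ext.mk₀ _).comp _ _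
      rw [Abelian.Ext.mk₀_comp_mk₀]
      rfl)
    (fun _ _ M f a => by
      change Abelian.Ext.mk₀ _ = (Abelian.Ext.mk₀ _).comp (Abelian.Ext.mk₀ _) _
      rw [Abelian.Ext.mk₀_comp_mk₀]
      rfl)
    (colDT I)

/-- Comparison data for `colim Ext^i(I^n, -)`. -/
noncomputable def cET (I : Ideal R) (i : ℕ) : LCData (powX I) i (LocCoh.extTransform I i) :=
  LCData.ofColimData (powX I) i
    (Ext R (ModuleCat.{u} R) i)
    (fun Z M => Groth.Agent.Localalg.OldExt.extEquiv (R := R) Z M i)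
    (fun Z _ _ g a => Groth.Agent.Localalg.OldExt.extEquiv_naturality_right (R := R) Z g i a)
    (fun _ _ M f a => Groth.Agent.Localalg.OldExt.extEquiv_naturality_left (R := R) f M i a)
    (colimData (powX I) _ (fun _ => preservesColimit_forget₀ R _))

/-- The functors `D_I`, `colim Ext^1(I^n, -)`, `colim Ext^2(I^n, -)`, ... -/
noncomputable def FT (I : Ideal R) : ℕ → ModuleCat.{u} R ⥤ ModuleCat.{u} R
  | 0 => LocCoh.idealTransform I
  | n + 1 => LocCoh.extTransform I (n + 1)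

/-- Comparison data for `FT`. -/
noncomputable def cFT (I : Ideal R) : ∀ i : ℕ, LCData (powX I) i (FT I i)
  | 0 => cDT I
  | n + 1 => cET I (n + 1)

section Explicit

variable (I : Ideal R)

/-- The structure map `Hom(I^n, M) → D_I(M)`. -/
noncomputable def ι (n : ℕ) (M : ModuleCat.{u} R) :
    (↥(I ^ n) →ₗ[R] M) →ₗ[R] (LocCoh.idealTransform I).obj M :=
  (colDT I).ι (op n) M ∘ₗ
    (ModuleCat.homLinearEquiv (S := R) (M := ModuleCat.of R ↥(I ^ n)) (N := M)).symm.toLinearMap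

variable {I}

lemma ι_def (n : ℕ) (M : ModuleCat.{u} R) (f : ↥(I ^ n) →ₗ[R] M) :
    ι I n M f = (colDT I).ι (op n) M (ModuleCat.ofHom f) := rfl

lemma ι_map (n : ℕ) {M N : ModuleCat.{u} R} (g : M ⟶ N) (f : ↥(I ^ n) →ₗ[R] M) :
    ((LocCoh.idealTransform I).map g).hom (ι I n M f) = ι I n N (g.hom ∘ₗ f) :=
  (colDT I).natural (op n) M N g (ModuleCat.ofHom f)

lemma ι_res {m n : ℕ} (h : m ≤ n) (M : ModuleCat.{u} R) (f : ↥(I ^ m) →ₗ[R] M) :
    ι I n M (f ∘ₗ Submodule.inclusion (Ideal.pow_le_pow_right h)) = ι I m M f :=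
  (colDT I).transition (op n) (op m) (homOfLE h).op M (ModuleCat.ofHom f)

lemma exists_ι {M : ModuleCat.{u} R} (y : (LocCoh.idealTransform I).obj M) :
    ∃ (n : ℕ) (f : ↥(I ^ n) →ₗ[R] M), ι I n M f = y := by
  obtain ⟨⟨n⟩, x, hx⟩ := (colDT I).exists_rep inferInstance M y
  exact ⟨n, ModuleCat.Hom.hom x, hx⟩

lemma exists_ι_ge {M : ModuleCat.{u} R} (k : ℕ) (y : (LocCoh.idealTransform I).obj M) :
    ∃ (n : ℕ) (_ : k ≤ n) (f : ↥(I ^ n) →ₗ[R] M), ι I n M f = y := by
  obtain ⟨n, f, hf⟩ := exists_ι y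
  exact ⟨max k n, le_max_left _ _, _, (ι_res (le_max_right k n) M f).trans hf⟩

lemma ι_eq_zero {n : ℕ} {M : ModuleCat.{u} R} (f : ↥(I ^ n) →ₗ[R] M) (hf : ι I n M f = 0) :
    ∃ (m : ℕ) (h : n ≤ m), f ∘ₗ Submodule.inclusion (Ideal.pow_le_pow_right h) = 0 := by
  obtain ⟨⟨m⟩, w, hw⟩ := (colDT I).eq_zero inferInstance (op n) M (ModuleCat.ofHom f) hf
  exact ⟨m, leOfHom w.unop, congrArg ModuleCat.Hom.hom hw⟩

lemma ι_eq_zero_iff {n : ℕ} {M : ModuleCat.{u} R} (f : ↥(I ^ n) →ₗ[R] M) :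
    ι I n M f = 0 ↔ ∃ (m : ℕ) (h : n ≤ m), ∀ (r : R) (hr : r ∈ I ^ m),
      f ⟨r, Ideal.pow_le_pow_right h hr⟩ = 0 := by
  constructor
  · intro hf
    obtain ⟨m, h, hm⟩ := ι_eq_zero f hf
    exact ⟨m, h, fun r hr => LinearMap.congr_fun hm ⟨r, hr⟩⟩
  · rintro ⟨m, h, hm⟩
    rw [← ι_res h]
    have : f ∘ₗ Submodule.inclusion (Ideal.pow_le_pow_right h) = 0 :=
      LinearMap.ext fun x => hm x.1 x.2
    rw [this, map_zero]

lemma ι_eq_iff {m n : ℕ} {M : ModuleCat.{u} R} (f : ↥(I ^ m) →ₗ[R] M) (g : ↥(I ^ n) →ₗ[R] M) :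
    ι I m M f = ι I n M g ↔ ∃ (k : ℕ) (h : m ≤ k) (h' : n ≤ k), ∀ (r : R) (hr : r ∈ I ^ k),
      f ⟨r, Ideal.pow_le_pow_right h hr⟩ = g ⟨r, Ideal.pow_le_pow_right h' hr⟩ := by
  have e1 := ι_res (le_max_left m n) M f
  have e2 := ι_res (le_max_right m n) M g
  rw [← e1, ← e2, ← sub_eq_zero, ← map_sub, ι_eq_zero_iff]
  constructor
  · rintro ⟨k, hk, h⟩
    exact ⟨k, (le_max_left m n).trans hk, (le_max_right m n).trans hk,
      fun r hr => sub_eq_zero.1 (h r hr)⟩
  · rintro ⟨k, h1, h2, h⟩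
    exact ⟨k, max_le h1 h2, fun r hr => sub_eq_zero.2 (h r hr)⟩

/-- Maps out of `D_I(M)`. -/
noncomputable def desc {M N : ModuleCat.{u} R} (g : ∀ n : ℕ, (↥(I ^ n) →ₗ[R] M) →ₗ[R] N)
    (hg : ∀ (m n : ℕ) (h : m ≤ n) (f : ↥(I ^ m) →ₗ[R] M),
      g n (f ∘ₗ Submodule.inclusion (Ideal.pow_le_pow_right h)) = g m f) :
    (LocCoh.idealTransform I).obj M →ₗ[R] N :=
  ((colDT I).desc M N (fun t => ModuleCat.ofHom (g t.unop ∘ₗ
    (ModuleCat.homLinearEquiv (S := R) (M := ModuleCat.of R ↥(I ^ t.unop)) (N := M)).toLinearMap))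
    (by
      intro s t w
      ext x
      exact hg t.unop s.unop (leOfHom w.unop) (ModuleCat.Hom.hom x))).hom

@[simp] lemma desc_ι {M N : ModuleCat.{u} R} (g : ∀ n : ℕ, (↥(I ^ n) →ₗ[R] M) →ₗ[R] N)
    (hg : ∀ (m n : ℕ) (h : m ≤ n) (f : ↥(I ^ m) →ₗ[R] M),
      g n (f ∘ₗ Submodule.inclusion (Ideal.pow_le_pow_right h)) = g m f) (n : ℕ)
    (f : ↥(I ^ n) →ₗ[R] M) : desc g hg (ι I n M f) = g n f :=
  (colDT I).desc_ι M N _ _ (op n) (ModuleCat.ofHom f)

lemma hom_ext {M : ModuleCat.{u} R} {N : Type*} [AddCommGroup N] [Module R N]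
    {φ ψ : (LocCoh.idealTransform I).obj M →ₗ[R] N}
    (h : ∀ (n : ℕ) (f : ↥(I ^ n) →ₗ[R] M), φ (ι I n M f) = ψ (ι I n M f)) : φ = ψ := by
  ext y
  obtain ⟨n, f, rfl⟩ := exists_ι y
  exact h n f

/-- The map `m ↦ (r ↦ r • m)`. -/
def sm (J : Ideal R) {M : Type*} [AddCommGroup M] [Module R M] : M →ₗ[R] (↥J →ₗ[R] M) :=
  ((LinearMap.lsmul R M).domRestrict J).flip

@[simp] lemma sm_apply (J : Ideal R) {M : Type*} [AddCommGroup M] [Module R M] (m : M) (r : ↥J) :
    sm J m r = (r : R) • m := rfl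

/-- `η_M(m)` is represented by `r ↦ r • m` at every stage. -/
lemma toDT_eq (n : ℕ) (M : Type u) [AddCommGroup M] [Module R M] (m : M) :
    LocCoh.toDT I M m = ι I n (ModuleCat.of R M) (sm (I ^ n) m) :=
  (ι_res (I := I) (Nat.zero_le n) (ModuleCat.of R M) (sm (I ^ 0) m)).symm

/-- `η` is natural. -/
lemma toDT_naturality {M N : Type u} [AddCommGroup M] [Module R M] [AddCommGroup N] [Module R N]
    (g : M →ₗ[R] N) (m : M) :
    ((LocCoh.idealTransform I).map (ModuleCat.ofHom g)).hom (LocCoh.toDT I M m) =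
      LocCoh.toDT I N (g m) := by
  rw [toDT_eq 0, toDT_eq 0]
  refine (ι_map 0 (ModuleCat.ofHom g) (sm (I ^ 0) m)).trans ?_
  congr 1
  ext r
  exact g.map_smul r m

variable (I) in
/-- `η` as a natural transformation. -/
noncomputable def η : 𝟭 (ModuleCat.{u} R) ⟶ LocCoh.idealTransform I where
  app M := ModuleCat.ofHom (X := M) (Y := (LocCoh.idealTransform I).obj M) (LocCoh.toDT I M)
  naturality M N g := by
    ext m
    exact (toDT_naturality (I := I) g.hom m).symm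

lemma η_app (M : ModuleCat.{u} R) (m : M) : ((η I).app M).hom m = LocCoh.toDT I M m := rfl

/-- The kernel of `M → D_I(M)` is `Γ_I(M)`. -/
theorem ker_toDT (M : Type u) [AddCommGroup M] [Module R M] :
    LinearMap.ker (LocCoh.toDT I M) = DRing.torsionSub I M := by
  ext m
  rw [LinearMap.mem_ker, toDT_eq 0, ι_eq_zero_iff]
  constructor
  · rintro ⟨n, _, h⟩
    exact ⟨n, fun r hr => h r hr⟩
  · rintro ⟨n, h⟩
    exact ⟨n, Nat.zero_le n, fun r hr => h r hr⟩

lemma smul_ι (n : ℕ) (M : Type u) [AddCommGroup M] [Module R M] (f : ↥(I ^ n) →ₗ[R] M) (r : R)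
    (hr : r ∈ I ^ n) : r • ι I n (ModuleCat.of R M) f = LocCoh.toDT I M (f ⟨r, hr⟩) := by
  rw [toDT_eq n, ← map_smul]
  congr 1
  ext s
  change r • f s = (s : R) • f ⟨r, hr⟩
  rw [← map_smul, ← map_smul]
  congr 1
  ext
  simp [mul_comm]

/-- The cokernel of `M → D_I(M)` is `I`-power torsion. -/
theorem exists_pow_smul_mem_range (M : Type u) [AddCommGroup M] [Module R M] (y : LocCoh.DT I M) :
    ∃ n : ℕ, ∀ r ∈ I ^ n, r • y ∈ LinearMap.range (LocCoh.toDT I M) := by
  obtain ⟨n, f, rfl⟩ := exists_ι y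
  exact ⟨n, fun r hr => ⟨f ⟨r, hr⟩, (smul_ι n M f r hr).symm⟩⟩

lemma exists_uniform {N M : Type*} [AddCommGroup N] [Module R N] [Module.Finite R N]
    [AddCommGroup M] [Module R M] (f : N →ₗ[R] M) (hM : ∀ x : N, ∃ k : ℕ, ∀ a ∈ I ^ k, a • f x = 0) :
    ∃ k : ℕ, ∀ a ∈ I ^ k, ∀ x : N, a • f x = 0 := by
  obtain ⟨s, hs⟩ := Module.Finite.fg_top (R := R) (M := N)
  choose k hk using hM
  refine ⟨s.sup k, fun a ha x => ?_⟩
  have hx : x ∈ Submodule.span R (s : Set N) := by rw [hs]; trivial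
  induction hx using Submodule.span_induction with
  | mem x hx => exact hk x a (Ideal.pow_le_pow_right (Finset.le_sup hx) ha)
  | zero => rw [map_zero, smul_zero]
  | add x y _ _ hx hy => rw [map_add, smul_add, hx, hy, add_zero]
  | smul r x _ hx => rw [map_smul, smul_comm, hx, smul_zero]

/-- `D_I` kills `I`-power torsion modules (Noetherian ring). -/
theorem subsingleton_of_torsion [IsNoetherianRing R] (M : ModuleCat.{u} R)
    (hM : LocCoh.IsPowerTorsion I M) : Subsingleton ((LocCoh.idealTransform I).obj M) := by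
  refine subsingleton_of_forall_eq 0 fun y => ?_
  obtain ⟨n, f, rfl⟩ := exists_ι y
  rw [ι_eq_zero_iff]
  obtain ⟨k, hk⟩ := exists_uniform (I := I) f (fun x => hM (f x))
  refine ⟨k + n, Nat.le_add_left n k, fun r hr => ?_⟩
  rw [pow_add] at hr
  have key : ∀ r (hr : r ∈ I ^ k * I ^ n), ∀ hr' : r ∈ I ^ n, f ⟨r, hr'⟩ = 0 := by
    intro r hr
    induction hr using Submodule.mul_induction_on' with
    | mem_mul_mem a ha b hb =>
      intro h
      have : (⟨a * b, h⟩ : ↥(I ^ n)) = a • ⟨b, hb⟩ := rfl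
      rw [this, map_smul, hk a ha]
    | add a ha b hb iha ihb =>
      intro h
      have ha' := Ideal.mul_le_right ha
      have hb' := Ideal.mul_le_right hb
      have : (⟨a + b, h⟩ : ↥(I ^ n)) = ⟨a, ha'⟩ + ⟨b, hb'⟩ := rfl
      rw [this, map_add, iha, ihb, add_zero]
  exact key r hr _

end Explicit

section Delta

variable (I : Ideal R)

/-- The delta functor of derived functors of `D_I`. -/
noncomputable def delta : DeltaFunctor (ModuleCat.{u} R) (ModuleCat.{u} R) where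
  T := FT I
  additive n := Groth.Agent.Localalg.LCFam.additive (cFT I) n
  δ hS n := ModuleCat.ofHom (Groth.Agent.Localalg.LCFam.δ (cFT I) hS n (n + 1) rfl)
  naturality {S S'} hS hS' φ n := by
    ext x
    exact (Groth.Agent.Localalg.LCFam.δ_naturality (cFT I) hS hS' φ n (n + 1) rfl x).symm
  zero₃ hS n := by
    ext x
    exact Groth.Agent.Localalg.LCFam.δ_map_zero (cFT I) hS n (n + 1) rfl x
  zero₁ hS n := by
    ext x
    exact Groth.Agent.Localalg.LCFam.map_δ_zero (cFT I) hS n (n + 1) rfl x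
  exact₂ hS n := (ShortComplex.ShortExact.moduleCat_exact_iff_function_exact _).2
    (Groth.Agent.Localalg.LCFam.exact₂ (cFT I) hS n)
  exact₃ hS n := (ShortComplex.ShortExact.moduleCat_exact_iff_function_exact _).2
    (Groth.Agent.Localalg.LCFam.exact₃ (cFT I) hS n (n + 1) rfl)
  exact₁ hS n := (ShortComplex.ShortExact.moduleCat_exact_iff_function_exact _).2
    (Groth.Agent.Localalg.LCFam.exact₁ (cFT I) hS n (n + 1) rfl)

lemma delta_effaceable : (delta I).Effaceable := by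
  intro J _ n
  rw [ModuleCat.isZero_iff_subsingleton]
  exact Groth.Agent.Localalg.LCFam.subsingleton_of_injective (cFT I) n J

/-- `D_I` is left exact: it preserves monomorphisms. -/
lemma map_injective {M N : ModuleCat.{u} R} (g : M ⟶ N) (hg : Function.Injective g.hom) :
    Function.Injective ((LocCoh.idealTransform I).map g).hom := by
  rw [injective_iff_map_eq_zero]
  intro y hy
  obtain ⟨n, f, rfl⟩ := exists_ι y
  rw [ι_map, ι_eq_zero_iff] at hy
  obtain ⟨m, h, hm⟩ := hy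
  rw [ι_eq_zero_iff]
  exact ⟨m, h, fun r hr => hg ((hm r hr).trans (map_zero _).symm)⟩

/-- `D_I` is left exact: exactness in the middle. -/
lemma map_exact {S : ShortComplex (ModuleCat.{u} R)} (hS : S.ShortExact) :
    Function.Exact ((LocCoh.idealTransform I).map S.f).hom
      ((LocCoh.idealTransform I).map S.g).hom :=
  Groth.Agent.Localalg.LCFam.exact₂ (cFT I) hS 0

end Delta

end K165.DT
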