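import Groth.Agent.LocCoh.K165.DT
import Mathlib.Algebra.Homology.DerivedCategory.Ext.EnoughProjectives

/-!
# `0 → Γ_I(M) → M → D_I(M) → H^1_I(M) → 0` and `R^i D_I = H^{i+1}_I`

* `K165.DTSeq.β I i M : (FT I i).obj M →ₗ (localCohomology I (i+1)).obj M` natural, surjective;
  bijective for `i ≥ 1`; kernel the range of `toDT` for `i = 0`.
* `isoExt : extTransform I i ≅ localCohomology I (i+1)` for `1 ≤ i`; `cokerEquiv`.
-/

set_option autoImplicit false
universe u

open CategoryTheory Limits Opposite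
open Groth.Agent.Localalg.LCData Groth.Agent.Localalg.DeltaFun K165.DT

namespace K165.DTSeq

variable {R : Type u} [CommRing R] (I : Ideal R)

/-- `0 → J → R → R/J → 0`. -/
noncomputable abbrev ses (J : Ideal R) : ShortComplex (ModuleCat.{u} R) :=
  ShortComplex.mk (X₁ := ModuleCat.of R J) (X₂ := ModuleCat.of R R) (X₃ := ModuleCat.of R (R ⧸ J))
    (ModuleCat.ofHom (Submodule.subtype J)) (ModuleCat.ofHom (Submodule.mkQ J)) (by
      ext x
      exact (Submodule.Quotient.mk_eq_zero J).2 x.2)

lemma ses_shortExact (J : Ideal R) : (ses J).ShortExact := by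
  refine ShortComplex.ShortExact.mk' ?_ ?_ ?_
  · rw [ShortComplex.ShortExact.moduleCat_exact_iff_function_exact]
    intro x
    constructor
    · intro hx
      exact ⟨⟨x, (Submodule.Quotient.mk_eq_zero J).1 hx⟩, rfl⟩
    · rintro ⟨y, rfl⟩
      exact (Submodule.Quotient.mk_eq_zero J).2 y.2
  · rw [ModuleCat.mono_iff_injective]
    exact Subtype.val_injective
  · rw [ModuleCat.epi_iff_surjective]
    exact Submodule.mkQ_surjective J

/-- The map of short exact sequences for `J ≤ J'`. -/
noncomputable def sesMap {J J' : Ideal R} (h : J ≤ J') : ses J ⟶ ses J' where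
  τ₁ := ModuleCat.ofHom (Submodule.inclusion h)
  τ₂ := 𝟙 _
  τ₃ := ModuleCat.ofHom (Submodule.mapQ J J' LinearMap.id h)
  comm₁₂ := rfl
  comm₂₃ := rfl

/-- The connecting map `colim Ext^i(I^n, M) → H^{i+1}_I(M)`. -/
noncomputable def β (i : ℕ) (M : ModuleCat.{u} R) :
    (FT I i).obj M →ₗ[R] (localCohomology I (i + 1)).obj M :=
  (cFT I i).desc M _ (fun t => Groth.Agent.Localalg.LCInst.ι I (i + 1) t.unop M ∘ₗ
    ((ses_shortExact (I ^ t.unop)).extClass.precompOfLinear R M (add_comm 1 i))) (by
      intro s t w x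
      have h : t.unop ≤ s.unop := leOfHom w.unop
      have h1 := ShortComplex.ShortExact.extClass_naturality
        (ses_shortExact (I ^ s.unop)) (ses_shortExact (I ^ t.unop))
        (sesMap (Ideal.pow_le_pow_right (I := I) h))
      change Groth.Agent.Localalg.LCInst.ι I (i + 1) s.unop M
        ((ses_shortExact (I ^ s.unop)).extClass.comp ((Abelian.Ext.mk₀
          (sesMap (Ideal.pow_le_pow_right (I := I) h)).τ₁).comp x (zero_add i)) (add_comm 1 i)) =
        Groth.Agent.Localalg.LCInst.ι I (i + 1) t.unop M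
          ((ses_shortExact (I ^ t.unop)).extClass.comp x (add_comm 1 i))
      rw [← Abelian.Ext.comp_assoc _ _ _ (add_zero 1) (zero_add i) (by omega), h1,
        Abelian.Ext.comp_assoc _ _ _ (zero_add 1) (add_comm 1 i) (by omega)]
      exact Groth.Agent.Localalg.LCInst.ι_tr h M _)

lemma β_toH (i : ℕ) (M : ModuleCat.{u} R) (t : ℕᵒᵖ) (x : Abelian.Ext.{u} ((powX I).obj t) M i) :
    β I i M ((cFT I i).toH t M x) = Groth.Agent.Localalg.LCInst.ι I (i + 1) t.unop M
      ((ses_shortExact (I ^ t.unop)).extClass.comp x (add_comm 1 i)) :=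
  (cFT I i).desc_toH _ _ _ _ t x

lemma β_naturality (i : ℕ) {M N : ModuleCat.{u} R} (g : M ⟶ N) (y : (FT I i).obj M) :
    β I i N (((FT I i).map g).hom y) = ((localCohomology I (i + 1)).map g).hom (β I i M y) := by
  obtain ⟨t, x, rfl⟩ := (cFT I i).exists_rep inferInstance M y
  rw [(cFT I i).natural, β_toH, β_toH, Groth.Agent.Localalg.LCInst.ι_map]
  congr 1
  exact (Abelian.Ext.comp_assoc _ _ _ (add_comm 1 i) (add_zero i) (by omega)).symm

instance projR : Projective (ModuleCat.of R R) :=
  (IsProjective.iff_projective (R := R) (P := R)).1 inferInstance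

lemma β_surjective (i : ℕ) (M : ModuleCat.{u} R) : Function.Surjective (β I i M) := by
  intro y
  obtain ⟨t, x, rfl⟩ := Groth.Agent.Localalg.LCInst.exists_ι y
  obtain ⟨z, hz⟩ := Abelian.Ext.contravariant_sequence_exact₃ (ses_shortExact (I ^ t)) M x
    (Abelian.Ext.eq_zero_of_projective (P := ModuleCat.of R R) _) (add_comm 1 i)
  refine ⟨(cFT I i).toH (op t) M z, ?_⟩
  rw [β_toH]
  exact congrArg _ hz

lemma β_eq_zero (i : ℕ) (M : ModuleCat.{u} R) (t : ℕᵒᵖ)
    (x : Abelian.Ext.{u} ((powX I).obj t) M i) (hx : β I i M ((cFT I i).toH t M x) = 0) :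
    ∃ (s : ℕ) (z : Abelian.Ext.{u} (ModuleCat.of R R) M i),
      (cFT I i).toH t M x = (cFT I i).toH (op s) M
        ((Abelian.Ext.mk₀ (ses (I ^ s)).f).comp z (zero_add i)) := by
  rw [β_toH] at hx
  obtain ⟨s, h, hs⟩ := Groth.Agent.Localalg.LCInst.ι_eq_zero _ hx
  have h1 := ShortComplex.ShortExact.extClass_naturality
    (ses_shortExact (I ^ s)) (ses_shortExact (I ^ t.unop))
    (sesMap (Ideal.pow_le_pow_right (I := I) h))
  have hs' : (Abelian.Ext.mk₀ (sesMap (Ideal.pow_le_pow_right (I := I) h)).τ₃).comp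
      ((ses_shortExact (I ^ t.unop)).extClass.comp x (add_comm 1 i)) (zero_add (i + 1)) = 0 := hs
  rw [← Abelian.Ext.comp_assoc _ _ _ (zero_add 1) (add_comm 1 i) (by omega), ← h1,
    Abelian.Ext.comp_assoc _ _ _ (add_zero 1) (zero_add i) (by omega)] at hs'
  obtain ⟨z, hz⟩ := Abelian.Ext.contravariant_sequence_exact₁ (ses_shortExact (I ^ s)) M _
    (add_comm 1 i) hs'
  refine ⟨s, z, ?_⟩
  rw [hz]
  exact ((cFT I i).transition (op s) t (homOfLE h).op M x).symm

lemma β_injective (i : ℕ) (hi : 1 ≤ i) (M : ModuleCat.{u} R) : Function.Injective (β I i M) := by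
  rw [injective_iff_map_eq_zero]
  intro y hy
  obtain ⟨t, x, rfl⟩ := (cFT I i).exists_rep inferInstance M y
  obtain ⟨s, z, h⟩ := β_eq_zero I i M t x hy
  obtain ⟨i, rfl⟩ : ∃ j, i = j + 1 := ⟨i - 1, by omega⟩
  rw [h, Abelian.Ext.eq_zero_of_projective z, Abelian.Ext.comp_zero]
  exact map_zero ((cFT I (i + 1)).toH (op s) M)

/-- `M → D_I(M)`, through the comparison data. -/
lemma toDT_eq_toH (s : ℕ) (M : ModuleCat.{u} R) (g : ModuleCat.of R R ⟶ M) :
    (cFT I 0).toH (op s) M ((Abelian.Ext.mk₀ (ses (I ^ s)).f).comp (Abelian.Ext.mk₀ g) (zero_add 0)) =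
      LocCoh.toDT I M (g.hom 1) := by
  rw [Abelian.Ext.mk₀_comp_mk₀, toDT_eq s]
  change (colDT I).ι (op s) M ((Abelian.Ext.linearEquiv₀ (R := R)) (Abelian.Ext.mk₀ _)) =
    (colDT I).ι (op s) M _
  congr 1
  apply (Abelian.Ext.linearEquiv₀ (R := R)).symm.injective
  rw [LinearEquiv.symm_apply_apply]
  change Abelian.Ext.mk₀ _ = Abelian.Ext.mk₀ _
  congr 1
  ext r
  change g.hom (r : R) = (r : R) • g.hom 1
  rw [← map_smul, smul_eq_mul, mul_one]

lemma β_toDT (M : ModuleCat.{u} R) (m : M) : β I 0 M (LocCoh.toDT I M m) = 0 := by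
  have h := toDT_eq_toH I 0 M (ModuleCat.ofHom (LinearMap.toSpanSingleton R M m))
  have h1 : (ModuleCat.ofHom (LinearMap.toSpanSingleton R M m) :
    ModuleCat.of R R ⟶ M).hom 1 = m := by simp
  rw [h1] at h
  rw [← h, β_toH, ShortComplex.ShortExact.extClass_comp_assoc, map_zero]

/-- `M → D_I(M) → H^1_I(M) → 0` is exact. -/
theorem exact_toDT (M : ModuleCat.{u} R) :
    Function.Exact (LocCoh.toDT I M) (β I 0 M : LocCoh.DT I M →ₗ[R] LocCoh.H I 1 M) := by
  intro y
  constructor
  · intro hy
    obtain ⟨t, x, rfl⟩ := (cFT I 0).exists_rep inferInstance M y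
    obtain ⟨s, z, h⟩ := β_eq_zero I 0 M t x hy
    obtain ⟨g, rfl⟩ := Groth.Agent.Localalg.LCInst.exists_mk₀ z
    exact ⟨g.hom 1, (toDT_eq_toH I s M g).symm.trans h.symm⟩
  · rintro ⟨m, rfl⟩
    exact β_toDT I M m

/-- The cokernel of `M → D_I(M)` is `H^1_I(M)`. -/
noncomputable def cokerEquiv (M : Type u) [AddCommGroup M] [Module R M] :
    (LocCoh.DT I M ⧸ LinearMap.range (LocCoh.toDT I M)) ≃ₗ[R] LocCoh.H I 1 M :=
  (Submodule.quotEquivOfEq _ _ (LinearMap.exact_iff.1 (exact_toDT I (ModuleCat.of R M))).symm) ≪≫ₗ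
    (β I 0 (ModuleCat.of R M)).quotKerEquivOfSurjective (β_surjective I 0 _)

/-- `colim Ext^i(I^n, -) ≅ H^{i+1}_I` for `i ≥ 1`. -/
noncomputable def isoExt (i : ℕ) (hi : 1 ≤ i) : FT I i ≅ localCohomology I (i + 1) :=
  NatIso.ofComponents (fun M => (LinearEquiv.ofBijective (β I i M)
    ⟨β_injective I i hi M, β_surjective I i M⟩).toModuleIso) (by
    intro M N g
    ext y
    exact β_naturality I i g y)

section Torsion

variable {I}

/-- `R^i D_I` kills `I`-power torsion modules (Noetherian ring). -/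
theorem FT_subsingleton_of_torsion [IsNoetherianRing R] (M : ModuleCat.{u} R)
    (hM : LocCoh.IsPowerTorsion I M) (i : ℕ) : Subsingleton ((FT I i).obj M) := by
  cases i with
  | zero => exact subsingleton_of_torsion M hM
  | succ i =>
    have h : IsZero ((localCohomology I (i + 2)).obj M) :=
      (Groth.Agent.Localalg.LCAbs.lc I).acyc_of_torsion (i + 1) M hM
    rw [ModuleCat.isZero_iff_subsingleton] at h
    exact (β_injective I (i + 1) (by omega) M).subsingleton

/-- `D_I` applied to a surjection with torsion kernel is bijective. -/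
theorem map_bijective_of_surjective [IsNoetherianRing R] {M N : ModuleCat.{u} R} (g : M ⟶ N)
    (hg : Function.Surjective g.hom) (hk : LocCoh.IsPowerTorsion I (LinearMap.ker g.hom)) :
    Function.Bijective ((LocCoh.idealTransform I).map g).hom := by
  let S : ShortComplex (ModuleCat.{u} R) := ShortComplex.mk
    (ModuleCat.ofHom (LinearMap.ker g.hom).subtype) g (by ext x; exact x.2)
  have hS : S.ShortExact := by
    refine ShortComplex.ShortExact.mk' ?_ ?_ ?_
    · rw [ShortComplex.ShortExact.moduleCat_exact_iff_function_exact]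
      intro x
      constructor
      · intro hx
        exact ⟨⟨x, hx⟩, rfl⟩
      · rintro ⟨y, rfl⟩
        exact y.2
    · rw [ModuleCat.mono_iff_injective]
      exact Subtype.val_injective
    · rw [ModuleCat.epi_iff_surjective]
      exact hg
  have h0 : Subsingleton ((FT I 0).obj S.X₁) := FT_subsingleton_of_torsion _ hk 0
  have h1 : Subsingleton ((FT I 1).obj S.X₁) := FT_subsingleton_of_torsion _ hk 1
  constructor
  · rw [injective_iff_map_eq_zero]
    intro y hy
    obtain ⟨z, hz⟩ := (Groth.Agent.Localalg.LCFam.exact₂ (cFT I) hS 0 y).1 hy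
    rw [← hz, Subsingleton.elim z 0]
    exact map_zero ((FT I 0).map S.f).hom
  · intro y
    exact (Groth.Agent.Localalg.LCFam.exact₃ (cFT I) hS 0 1 rfl y).1 (Subsingleton.elim _ _)

/-- `D_I` applied to an injection with torsion cokernel is bijective. -/
theorem map_bijective_of_injective [IsNoetherianRing R] {M N : ModuleCat.{u} R} (g : M ⟶ N)
    (hg : Function.Injective g.hom)
    (hk : LocCoh.IsPowerTorsion I (N ⧸ LinearMap.range g.hom)) :
    Function.Bijective ((LocCoh.idealTransform I).map g).hom := by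
  let S : ShortComplex (ModuleCat.{u} R) := ShortComplex.mk g
    (ModuleCat.ofHom (LinearMap.range g.hom).mkQ) (by
      ext x
      exact (Submodule.Quotient.mk_eq_zero _).2 ⟨x, rfl⟩)
  have hS : S.ShortExact := by
    refine ShortComplex.ShortExact.mk' ?_ ?_ ?_
    · rw [ShortComplex.ShortExact.moduleCat_exact_iff_function_exact]
      intro x
      constructor
      · intro hx
        exact (Submodule.Quotient.mk_eq_zero _).1 hx
      · rintro ⟨y, rfl⟩
        exact (Submodule.Quotient.mk_eq_zero _).2 ⟨y, rfl⟩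
    · rw [ModuleCat.mono_iff_injective]
      exact hg
    · rw [ModuleCat.epi_iff_surjective]
      exact Submodule.mkQ_surjective _
  have h0 : Subsingleton ((FT I 0).obj S.X₃) := FT_subsingleton_of_torsion _ hk 0
  refine ⟨map_injective I g hg, fun y => ?_⟩
  exact (Groth.Agent.Localalg.LCFam.exact₂ (cFT I) hS 0 y).1
    (Subsingleton.elim (α := (FT I 0).obj S.X₃) _ _)

/-- `D_I` applied to a map with torsion kernel and torsion cokernel is bijective. -/
theorem map_bijective [IsNoetherianRing R] {M N : ModuleCat.{u} R} (g : M ⟶ N)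
    (hk : LocCoh.IsPowerTorsion I (LinearMap.ker g.hom))
    (hc : LocCoh.IsPowerTorsion I (N ⧸ LinearMap.range g.hom)) :
    Function.Bijective ((LocCoh.idealTransform I).map g).hom := by
  let p : M ⟶ ModuleCat.of R (LinearMap.range g.hom) := ModuleCat.ofHom g.hom.rangeRestrict
  let q : ModuleCat.of R (LinearMap.range g.hom) ⟶ N :=
    ModuleCat.ofHom (LinearMap.range g.hom).subtype
  have hpq : p ≫ q = g := rfl
  have hp : Function.Bijective ((LocCoh.idealTransform I).map p).hom := by
    refine map_bijective_of_surjective p g.hom.surjective_rangeRestrict ?_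
    have : LinearMap.ker p.hom = LinearMap.ker g.hom := LinearMap.ker_rangeRestrict g.hom
    rw [this]
    exact hk
  have hq : Function.Bijective ((LocCoh.idealTransform I).map q).hom := by
    refine map_bijective_of_injective q Subtype.val_injective ?_
    have : LinearMap.range q.hom = LinearMap.range g.hom := Submodule.range_subtype _
    rw [this]
    exact hc
  rw [← hpq, Functor.map_comp]
  exact hq.comp hp

end Torsion

end K165.DTSeq
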