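import Groth.Agent.OmegaSh.K583.DerAffine
import Mathlib.AlgebraicGeometry.Morphisms.Etale
import Groth.Prelude.Def_Coh

/-!
# Derivations of `A` act on the structure sheaf of an étale `A`-scheme and on its cohomology
-/

set_option autoImplicit false
universe u

open CategoryTheory CategoryTheory.Limits AlgebraicGeometry TopologicalSpace Opposite
open scoped TensorProduct

namespace K165.EtDer

/-- Extension of a derivation along a formally étale ring map. -/
theorem exists_der {A B : Type u} [CommRing A] [CommRing B] (ρ : A →+* B) (hρ : ρ.FormallyEtale)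
    (θ : Derivation ℤ A A) :
    ∃ d : B →+ B, (∀ a b, d (a * b) = a * d b + b * d a) ∧ ∀ a : A, d (ρ a) = ρ (θ a) := by
  let _ : Algebra A B := ρ.toAlgebra
  have : Algebra.FormallyEtale A B := hρ
  let e := KaehlerDifferential.tensorKaehlerEquivOfFormallyEtale ℤ A B
  let f : Ω[A⁄ℤ] →ₗ[A] B := (Algebra.linearMap A B) ∘ₗ θ.liftKaehlerDifferential
  let g : B ⊗[A] Ω[A⁄ℤ] →ₗ[B] B := LinearMap.liftBaseChange B f
  let D : Derivation ℤ B B := (g ∘ₗ e.symm.toLinearMap).compDer (KaehlerDifferential.D ℤ B)
  refine ⟨D.toLinearMap.toAddMonoidHom, fun a b => D.leibniz a b, fun a => ?_⟩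
  change g (e.symm (KaehlerDifferential.D ℤ B (algebraMap A B a))) = _
  rw [KaehlerDifferential.tensorKaehlerEquivOfFormallyEtale_symm_D_algebraMap]
  simp only [g, LinearMap.liftBaseChange_tmul, one_smul]
  change algebraMap A B (θ.liftKaehlerDifferential (KaehlerDifferential.D ℤ A a)) = _
  rw [Derivation.liftKaehlerDifferential_comp_D]
  rfl

/-- Uniqueness of the extension of a derivation along a formally unramified ring map. -/
theorem der_unique {A B C : Type u} [CommRing A] [CommRing B] [CommRing C] (ρ : A →+* B)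
    (hρ : ρ.FormallyUnramified) (g : B →+* C) (d₁ d₂ : B →+ C)
    (h₁ : ∀ a b, d₁ (a * b) = g a * d₁ b + g b * d₁ a)
    (h₂ : ∀ a b, d₂ (a * b) = g a * d₂ b + g b * d₂ a)
    (h : ∀ a, d₁ (ρ a) = d₂ (ρ a)) : d₁ = d₂ := by
  let _ : Algebra A B := ρ.toAlgebra
  have : Algebra.FormallyUnramified A B := hρ
  let _ : Module B C := Module.compHom C g
  let _ : Module A C := Module.compHom C (g.comp ρ)
  have : IsScalarTower A B C := IsScalarTower.of_algebraMap_smul fun _ _ => rfl
  have hA : ∀ (a : A) (b : B), (d₁ - d₂) (ρ a * b) = g (ρ a) * (d₁ - d₂) b := by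
    intro a b
    rw [AddMonoidHom.sub_apply, AddMonoidHom.sub_apply, h₁, h₂, h a]
    ring
  let D : Derivation A B C :=
    { toFun := fun b => (d₁ - d₂) b
      map_add' := map_add (d₁ - d₂)
      map_smul' := fun a b => hA a b
      map_one_eq_zero' := by
        have := h 1
        rw [map_one] at this
        change (d₁ - d₂) 1 = 0
        rw [AddMonoidHom.sub_apply, this, sub_self]
      leibniz' := fun a b => by
        change (d₁ - d₂) (a * b) = g a * (d₁ - d₂) b + g b * (d₁ - d₂) a
        rw [AddMonoidHom.sub_apply, AddMonoidHom.sub_apply, AddMonoidHom.sub_apply, h₁, h₂]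
        ring }
  have hs : Subsingleton Ω[B⁄A] := inferInstance
  have hD : D = 0 := by
    rw [← Derivation.liftKaehlerDifferential_comp D]
    have : D.liftKaehlerDifferential = 0 := by
      refine LinearMap.ext fun x => ?_
      rw [Subsingleton.elim x 0, map_zero, map_zero]
    rw [this]
    ext x
    rfl
  ext b
  have := congrArg (fun D : Derivation A B C => D b) hD
  exact sub_eq_zero.1 this

section Scheme

variable {A : Type u} [CommRing A] {V : Scheme.{u}} (f : V ⟶ Spec (CommRingCat.of A))

/-- the structure ring homs `A → Γ(V, U)` -/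
noncomputable abbrev str (U : V.Opens) : A →+* Γ(V, U) :=
  (V.presheaf.map (homOfLE le_top : U ⟶ ⊤).op).hom.comp (Coh.toGlobal f)

lemma map_str {U U' : V.Opens} (h : U' ≤ U) (a : A) :
    V.presheaf.map (homOfLE h).op (str f U a) = str f U' a := by
  change (V.presheaf.map (homOfLE le_top : U ⟶ ⊤).op ≫ V.presheaf.map (homOfLE h).op).hom _ = _
  rw [← Functor.map_comp]
  rfl

lemma etale_str [Etale f] {U : V.Opens} (hU : IsAffineOpen U) : (str f U).Etale := by
  have h := f.etale_appLE (isAffineOpen_top (Spec (CommRingCat.of A))) hU le_top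
  have h2 : str f U = (f.appLE ⊤ U le_top).hom.comp (Scheme.ΓSpecIso (CommRingCat.of A)).inv.hom := rfl
  rw [h2]
  exact RingHom.Etale.respectsIso.2 _ (Scheme.ΓSpecIso (CommRingCat.of A)).symm.commRingCatIsoToRingEquiv h

/-- A derivation of `A` extends to the structure sheaf of an étale `A`-scheme. -/
theorem exists_sheaf_der [Etale f] (θ : Derivation ℤ A A) :
    ∃ d : ∀ U : V.Opens, Γ(V, U) →+ Γ(V, U),
      (∀ U a b, d U (a * b) = a * d U b + b * d U a) ∧
      (∀ (U U' : V.Opens) (h : U' ≤ U) (a : Γ(V, U)),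
        d U' (V.presheaf.map (homOfLE h).op a) = V.presheaf.map (homOfLE h).op (d U a)) ∧
      ∀ (U : V.Opens) (a : A), d U (str f U a) = str f U (θ a) := by
  have h1 : ∀ U : V.affineOpens, ∃ d : Γ(V, U.1) →+ Γ(V, U.1),
      (∀ a b, d (a * b) = a * d b + b * d a) ∧ ∀ a : A, d (str f U.1 a) = str f U.1 (θ a) :=
    fun U => exists_der (str f U.1) (etale_str f U.2).formallyEtale θ
  choose φ hφ1 hφ2 using h1
  have hB : Opens.IsBasis (Set.range (fun U : V.affineOpens => U.1)) := by
    have := V.isBasis_affineOpens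
    convert this
    ext x
    simp [Scheme.affineOpens]
  obtain ⟨d, hd1, hd2, hd3⟩ := K583.DerAffine.exists_of_basis hB (Coh.structureModule V)
    (fun U => φ U) (by
      intro U U' h a
      have h3 := der_unique (str f U.1) (etale_str f U.2).formallyUnramified
        (V.presheaf.map (homOfLE h).op).hom
        ((φ U').comp (V.presheaf.map (homOfLE h).op).hom.toAddMonoidHom)
        ((V.presheaf.map (homOfLE h).op).hom.toAddMonoidHom.comp (φ U))
        (fun a b => by
          change φ U' ((V.presheaf.map (homOfLE h).op).hom (a * b)) = _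
          rw [map_mul, hφ1]
          rfl)
        (fun a b => by
          change (V.presheaf.map (homOfLE h).op).hom (φ U (a * b)) = _
          rw [hφ1, map_add, map_mul, map_mul]
          rfl)
        (fun a => by
          change φ U' (V.presheaf.map (homOfLE h).op (str f U.1 a)) =
            V.presheaf.map (homOfLE h).op (φ U (str f U.1 a))
          rw [map_str, hφ2, hφ2, map_str])
      exact congrArg (fun g => g a) h3)
    (fun U a b => hφ1 U a b)
  refine ⟨d, hd1, hd2, fun U a => ?_⟩
  apply K583.DerAffine.eq_of_locally (Coh.structureModule V)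
  intro x hx
  obtain ⟨_, ⟨W, rfl⟩, hxW, hW⟩ := Opens.isBasis_iff_nbhd.mp hB hx
  refine ⟨W.1, hW, hxW, ?_⟩
  have h4 := hd2 U W.1 hW (str f U a)
  refine h4.symm.trans ?_
  have h5 : V.presheaf.map (homOfLE hW).op (str f U a) = str f W.1 a := map_str f hW a
  have h6 : V.presheaf.map (homOfLE hW).op (str f U (θ a)) = str f W.1 (θ a) := map_str f hW _
  refine (congrArg (d W.1) h5).trans ?_
  refine (hd3 W _).trans ?_
  refine (hφ2 W a).trans ?_
  exact h6.symm

/-- The sheaf endomorphism attached to a derivation. -/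
theorem exists_endo [Etale f] (θ : Derivation ℤ A A) :
    ∃ E : Coh.toAb (Coh.structureModule V) ⟶ Coh.toAb (Coh.structureModule V),
      ∀ a : A, Coh.smulAb (Coh.structureModule V) (Coh.toGlobal f a) ≫ E =
        Coh.smulAb (Coh.structureModule V) (Coh.toGlobal f (θ a)) +
          E ≫ Coh.smulAb (Coh.structureModule V) (Coh.toGlobal f a) := by
  obtain ⟨d, hd1, hd2, hd3⟩ := exists_sheaf_der f θ
  let E : Coh.toAb (Coh.structureModule V) ⟶ Coh.toAb (Coh.structureModule V) :=
    ⟨{ app := fun U => AddCommGrpCat.ofHom (d U.unop)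
       naturality := fun U U' g => by
        ext s
        exact hd2 U.unop U'.unop (leOfHom g.unop) s }⟩
  refine ⟨E, fun a => ?_⟩
  apply Sheaf.hom_ext
  ext U s
  have h : ∀ t : Γ(V, U.unop), d U.unop (str f U.unop a * t) =
      str f U.unop (θ a) * t + str f U.unop a * d U.unop t := by
    intro t
    rw [hd1, hd3]
    ring
  exact h s

/-- The operator on cohomology attached to a derivation. -/
theorem exists_operator [V.Over (Spec (CommRingCat.of A))] [Etale (V ↘ Spec (CommRingCat.of A))]
    (θ : Derivation ℤ A A) (i : ℕ) :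
    ∃ D : Coh.HH V (Coh.structureModule V) i →+ Coh.HH V (Coh.structureModule V) i,
      ∀ (a : A) (ξ : Coh.HH V (Coh.structureModule V) i), D (a • ξ) = θ a • ξ + a • D ξ := by
  obtain ⟨E, hE⟩ := exists_endo (V ↘ Spec (CommRingCat.of A)) θ
  refine ⟨Sheaf.H.map E i, fun a ξ => ?_⟩
  change Sheaf.H.map E i (Sheaf.H.map (Coh.smulAb _ (Coh.toGlobal (V ↘ Spec (CommRingCat.of A)) a)) i ξ) =
    Sheaf.H.map (Coh.smulAb _ (Coh.toGlobal (V ↘ Spec (CommRingCat.of A)) (θ a))) i ξ +
    Sheaf.H.map (Coh.smulAb _ (Coh.toGlobal (V ↘ Spec (CommRingCat.of A)) a)) i (Sheaf.H.map E i ξ)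
  rw [← Sheaf.H.map_comp_apply, ← Sheaf.H.map_comp_apply, hE, Sheaf.H.map_add_apply]

end Scheme

end K165.EtDer
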