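import Mathlib.RingTheory.MvPolynomial.Homogeneous
import Mathlib.RingTheory.Filtration
import Mathlib.RingTheory.Polynomial.Basic
import Mathlib.Algebra.Module.Torsion.Basic
import Mathlib.RingTheory.TensorProduct.Finite
import Mathlib.LinearAlgebra.TensorProduct.Tower

/-!
# The graded module map attached to a splitting `x = Σ f_j φ_j(x)`
-/

set_option autoImplicit false
universe u
open scoped TensorProduct

namespace K165.GrMod

/-- A bound past which no element of `J^s P` is `J`-power torsion. -/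
theorem exists_pow_bound {R P : Type*} [CommRing R] [IsNoetherianRing R] [AddCommGroup P] [Module R P]
    [Module.Finite R P] (J : Ideal R) :
    ∃ s : ℕ, ∀ z ∈ J ^ s • (⊤ : Submodule R P), ∀ k : ℕ, (∀ a ∈ J ^ k, a • z = 0) → z = 0 := by
  have : IsNoetherian R P := isNoetherian_of_isNoetherianRing_of_finite R P
  let T : ℕ →o Submodule R P :=
    ⟨fun k => Submodule.torsionBySet R P ((J ^ k : Ideal R) : Set R), by
      intro a b hab z hz
      rw [Submodule.mem_torsionBySet_iff] at hz ⊢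
      intro x
      exact hz ⟨x.1, Ideal.pow_le_pow_right hab x.2⟩⟩
  obtain ⟨k0, hk0⟩ := monotone_stabilizes_iff_noetherian.2 this T
  obtain ⟨t, ht⟩ := Ideal.exists_pow_inf_eq_pow_smul J (T k0)
  refine ⟨t + k0, fun z hz k hk => ?_⟩
  have hzT : z ∈ T k0 := by
    have h1 : z ∈ T k := by
      change z ∈ Submodule.torsionBySet R P _
      rw [Submodule.mem_torsionBySet_iff]
      intro x
      exact hk x.1 x.2
    have h2 : T k ≤ T k0 := by
      rcases le_total k k0 with h | h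
      · exact T.monotone h
      · exact (hk0 k h).ge
    exact h2 h1
  have h3 : z ∈ J ^ (t + k0) • (⊤ : Submodule R P) ⊓ T k0 := ⟨hz, hzT⟩
  rw [ht _ (Nat.le_add_right _ _), Nat.add_sub_cancel_left] at h3
  have h4 : z ∈ J ^ k0 • T k0 := Submodule.smul_mono le_rfl inf_le_right h3
  have h5 : J ^ k0 • T k0 ≤ ⊥ := by
    refine Submodule.smul_le.2 fun a ha w hw => ?_
    have hw' : w ∈ Submodule.torsionBySet R P ((J ^ k0 : Ideal R) : Set R) := hw
    rw [Submodule.mem_torsionBySet_iff] at hw'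
    exact (Submodule.mem_bot _).2 (hw' ⟨a, ha⟩)
  exact (Submodule.mem_bot _).1 (h5 h4)

section

variable {A : Type u} [CommRing A] {r : ℕ} {I : Ideal A} {c : ℕ}

/-- The functionals of a splitting on `I ^ c` take `I ^ (c + s)` into `I ^ s`. -/
theorem apply_mem (φ : ↥(I ^ c) →ₗ[A] A) {s : ℕ} {g : A} (hg : g ∈ I ^ (c + s)) (hg' : g ∈ I ^ c) :
    φ ⟨g, hg'⟩ ∈ I ^ s := by
  have h : g ∈ I ^ s * I ^ c := by rw [← pow_add, add_comm s c]; exact hg
  have key : ∃ hg' : g ∈ I ^ c, φ ⟨g, hg'⟩ ∈ I ^ s := by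
    refine Submodule.mul_induction_on (C := fun g => ∃ hg' : g ∈ I ^ c, φ ⟨g, hg'⟩ ∈ I ^ s) h ?_ ?_
    · intro x hx y hy
      refine ⟨Ideal.mul_mem_left _ _ hy, ?_⟩
      have : (⟨x * y, Ideal.mul_mem_left _ _ hy⟩ : ↥(I ^ c)) = x • ⟨y, hy⟩ := rfl
      rw [this, map_smul, smul_eq_mul]
      exact Ideal.mul_mem_right _ _ hx
    · rintro x y ⟨hx, hx'⟩ ⟨hy, hy'⟩
      refine ⟨Ideal.add_mem _ hx hy, ?_⟩
      have : (⟨x + y, Ideal.add_mem _ hx hy⟩ : ↥(I ^ c)) = ⟨x, hx⟩ + ⟨y, hy⟩ := rfl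
      rw [this, map_add]
      exact Ideal.add_mem _ hx' hy'
  exact key.2

variable {c' : ℕ} (hcc' : c ≤ c') (φ : Fin r → (↥(I ^ c) →ₗ[A] A))
  (Φ : ℕ → A → MvPolynomial (Fin r) A)
  (hadd : ∀ n : ℕ, ∀ g ∈ I ^ (n * c'), ∀ h ∈ I ^ (n * c'), Φ n (g + h) = Φ n g + Φ n h)
  (hmul : ∀ n m : ℕ, ∀ g ∈ I ^ (n * c'), ∀ h ∈ I ^ (m * c'), Φ (n + m) (g * h) = Φ n g * Φ m h)
  (hzero : ∀ a : A, Φ 0 a = MvPolynomial.C a)
  (hone : ∀ (g : A) (hg : g ∈ I ^ c'),
    Φ 1 g = ∑ j, MvPolynomial.C (φ j ⟨g, Ideal.pow_le_pow_right hcc' hg⟩) * MvPolynomial.X j)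

include hadd hmul hzero hone in
/-- Induction principle for the graded map `Φ`. -/
theorem coeff_mem (n : ℕ) : ∀ g ∈ I ^ (n * c'),
    Φ n g ∈ (I ^ (n * (c' - c))).map (MvPolynomial.C (σ := Fin r) (R := A)) := by
  induction n with
  | zero => intro g _; simp [Ideal.map_top]
  | succ n ih =>
    intro g hg
    have h : I ^ ((n + 1) * c') = I ^ (n * c') * I ^ (1 * c') := by rw [← pow_add]; congr 1; ring
    have hg' : g ∈ I ^ (n * c') * I ^ (1 * c') := h ▸ hg
    have key : g ∈ I ^ ((n + 1) * c') ∧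
        Φ (n + 1) g ∈ (I ^ ((n + 1) * (c' - c))).map (MvPolynomial.C (σ := Fin r) (R := A)) := by
      refine Submodule.mul_induction_on (C := fun g => g ∈ I ^ ((n + 1) * c') ∧
        Φ (n + 1) g ∈ (I ^ ((n + 1) * (c' - c))).map (MvPolynomial.C (σ := Fin r) (R := A))) hg' ?_ ?_
      · intro x hx y hy
        refine ⟨h ▸ Ideal.mul_mem_mul hx hy, ?_⟩
        have hy' : y ∈ I ^ c' := by simpa using hy
        rw [hmul n 1 x hx y hy, add_mul, one_mul, pow_add, Ideal.map_mul]
        refine Ideal.mul_mem_mul (ih x hx) ?_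
        rw [hone y hy']
        refine Ideal.sum_mem _ fun j _ => Ideal.mul_mem_right _ _ (Ideal.mem_map_of_mem _ ?_)
        refine apply_mem (φ j) (s := c' - c) ?_ _
        rw [Nat.add_sub_cancel' hcc']
        exact hy'
      · rintro x y ⟨hx, hx'⟩ ⟨hy, hy'⟩
        refine ⟨Ideal.add_mem _ hx hy, ?_⟩
        rw [hadd (n + 1) x hx y hy]
        exact Ideal.add_mem _ hx' hy'
    exact key.2

include hadd hmul hzero hone in
theorem aeval_eq (f : Fin r → A) (hφ : ∀ x : ↥(I ^ c), (x : A) = ∑ j, f j * φ j x) (n : ℕ) :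
    ∀ g ∈ I ^ (n * c'), MvPolynomial.aeval f (Φ n g) = g := by
  induction n with
  | zero => intro g _; rw [hzero]; simp
  | succ n ih =>
    intro g hg
    have h : I ^ ((n + 1) * c') = I ^ (n * c') * I ^ (1 * c') := by rw [← pow_add]; congr 1; ring
    have hg' : g ∈ I ^ (n * c') * I ^ (1 * c') := h ▸ hg
    have key : g ∈ I ^ ((n + 1) * c') ∧ MvPolynomial.aeval f (Φ (n + 1) g) = g := by
      refine Submodule.mul_induction_on (C := fun g => g ∈ I ^ ((n + 1) * c') ∧
        MvPolynomial.aeval f (Φ (n + 1) g) = g) hg' ?_ ?_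
      · intro x hx y hy
        refine ⟨h ▸ Ideal.mul_mem_mul hx hy, ?_⟩
        have hy' : y ∈ I ^ c' := by simpa using hy
        rw [hmul n 1 x hx y hy, map_mul, ih x hx, hone y hy', map_sum]
        congr 1
        have h1 := hφ ⟨y, Ideal.pow_le_pow_right hcc' hy'⟩
        refine Eq.trans ?_ h1.symm
        refine Finset.sum_congr rfl fun j _ => ?_
        rw [map_mul, MvPolynomial.aeval_X, MvPolynomial.aeval_C, mul_comm]
        rfl
      · rintro x y ⟨hx, hx'⟩ ⟨hy, hy'⟩
        refine ⟨Ideal.add_mem _ hx hy, ?_⟩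
        rw [hadd (n + 1) x hx y hy, map_add, hx', hy']
    exact key.2

end

/-- A linear map defined on a span of a family by its values on the family. -/
theorem exists_on_span {B N P ι : Type*} [CommRing B] [AddCommGroup N] [Module B N] [AddCommGroup P]
    [Module B P] (v : ι → N) (w : ι → P) (S : Submodule B N) (hS : S = Submodule.span B (Set.range v))
    (h : ∀ l : ι →₀ B, Finsupp.linearCombination B v l = 0 → Finsupp.linearCombination B w l = 0) :
    ∃ Ψ : ↥S →ₗ[B] P, ∀ (i : ι) (hi : v i ∈ S), Ψ ⟨v i, hi⟩ = w i := by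
  subst hS
  let p := Finsupp.linearCombination B v
  let q := Finsupp.linearCombination B w
  have hpq : LinearMap.ker p ≤ LinearMap.ker q := fun l hl => h l hl
  have hr : LinearMap.range p = Submodule.span B (Set.range v) := Finsupp.range_linearCombination B
  let e : ↥(Submodule.span B (Set.range v)) ≃ₗ[B] (ι →₀ B) ⧸ LinearMap.ker p :=
    (LinearEquiv.ofEq _ _ hr.symm).trans p.quotKerEquivRange.symm
  refine ⟨((LinearMap.ker p).liftQ q hpq).comp e.toLinearMap, fun i hi => ?_⟩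
  have h1 : e ⟨v i, hi⟩ = Submodule.Quotient.mk (Finsupp.single i 1) := by
    refine e.symm.injective ?_
    rw [LinearEquiv.symm_apply_apply]
    apply Subtype.ext
    change v i = p (Finsupp.single i 1)
    simp [p]
  rw [LinearMap.comp_apply, LinearEquiv.coe_coe, h1]
  change q (Finsupp.single i 1) = w i
  simp [q]

end K165.GrMod
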