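import Groth.Agent.Localalg.DeltaFun
import Mathlib.Algebra.Category.ModuleCat.EnoughInjectives
import Mathlib.Algebra.Homology.ShortComplex.ModuleCat

/-!
# Exactness for three delta functors, by dimension shifting

`T' → T → ∏ R_p` are morphisms of effaceable delta functors on modules which in degree zero form exact
sequences `0 → T'_0(E) → T_0(E) → ⊕ R_{p,0}(E) → 0` for `E` injective.

* `exact_mid`: `T'_i(M) → T_i(M) → ∏ R_{p,i}(M)` is exact.
* `map_eq_zero`: if `R_{p,i}(φ) = 0` for all `p`, then `T'_{i+1}(φ)` kills the kernel of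
  `T'_{i+1}(M) → T_{i+1}(M)`.
-/

set_option autoImplicit false
universe u v

open CategoryTheory CategoryTheory.Limits
open Groth.Agent.Localalg.DeltaFun

namespace K165.HTAbs

variable {A : Type u} [CommRing A]

section Elem

variable (T : DeltaFunctor (ModuleCat.{u} A) (ModuleCat.{u} A)) {S S' : ShortComplex (ModuleCat.{u} A)}
  (hS : S.ShortExact) (hS' : S'.ShortExact)

lemma el3 (n : ℕ) (y : (T.T n).obj S.X₃) (h : (T.δ hS n).hom y = 0) :
    ∃ x, ((T.T n).map S.g).hom x = y :=
  (ShortComplex.moduleCat_exact_iff _).1 (T.exact₃ hS n) y h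

include hS in
lemma el2 (n : ℕ) (y : (T.T n).obj S.X₂) (h : ((T.T n).map S.g).hom y = 0) :
    ∃ x, ((T.T n).map S.f).hom x = y :=
  (ShortComplex.moduleCat_exact_iff _).1 (T.exact₂ hS n) y h

lemma el1 (n : ℕ) (y : (T.T (n + 1)).obj S.X₁) (h : ((T.T (n + 1)).map S.f).hom y = 0) :
    ∃ x, (T.δ hS n).hom x = y :=
  (ShortComplex.moduleCat_exact_iff _).1 (T.exact₁ hS n) y h

lemma δ_map (n : ℕ) (x : (T.T n).obj S.X₂) : (T.δ hS n).hom (((T.T n).map S.g).hom x) = 0 :=
  ConcreteCategory.congr_hom (T.zero₃ hS n) x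

lemma δ_nat (φ : S ⟶ S') (n : ℕ) (x : (T.T n).obj S.X₃) :
    ((T.T (n + 1)).map φ.τ₁).hom ((T.δ hS n).hom x) = (T.δ hS' n).hom (((T.T n).map φ.τ₃).hom x) :=
  (ConcreteCategory.congr_hom (T.naturality hS hS' φ n) x).symm

lemma mapmap {X Y Z : ModuleCat.{u} A} (n : ℕ) (f : X ⟶ Y) (g : Y ⟶ Z) (x : (T.T n).obj X) :
    ((T.T n).map g).hom (((T.T n).map f).hom x) = ((T.T n).map (f ≫ g)).hom x :=
  (ConcreteCategory.congr_hom ((T.T n).map_comp f g) x).symm

lemma map_zero_hom {X Y : ModuleCat.{u} A} (n : ℕ) (x : (T.T n).obj X) :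
    ((T.T n).map (0 : X ⟶ Y)).hom x = 0 := by
  rw [Functor.map_zero]
  rfl

lemma sub_eff (hT : T.Effaceable) (E : ModuleCat.{u} A) [Injective E] (n : ℕ) :
    Subsingleton ((T.T (n + 1)).obj E) := ModuleCat.subsingleton_of_isZero (hT E n)

lemma surj_δ (hT : T.Effaceable) (M : ModuleCat.{u} A) (n : ℕ) (y : (T.T (n + 1)).obj M) :
    ∃ x, (T.δ (injSES_shortExact M) n).hom x = y := by
  have := sub_eff T hT (Injective.under M) n
  exact el1 T (injSES_shortExact M) n y (Subsingleton.elim _ _)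

variable {T} {T₁ : DeltaFunctor (ModuleCat.{u} A) (ModuleCat.{u} A)} (c : DeltaHom T T₁)

lemma c_δ (n : ℕ) (x : (T.T n).obj S.X₃) :
    ((c.app (n + 1)).app S.X₁).hom ((T.δ hS n).hom x) = (T₁.δ hS n).hom (((c.app n).app S.X₃).hom x) :=
  (ConcreteCategory.congr_hom (c.comm hS n) x).symm

lemma c_nat {X Y : ModuleCat.{u} A} (n : ℕ) (f : X ⟶ Y) (x : (T.T n).obj X) :
    ((c.app n).app Y).hom (((T.T n).map f).hom x) = ((T₁.T n).map f).hom (((c.app n).app X).hom x) :=
  ConcreteCategory.congr_hom ((c.app n).naturality f) x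

end Elem

/-- The hypotheses on `T' → T → ∏ R_p`. -/
structure Sit (T' T : DeltaFunctor (ModuleCat.{u} A) (ModuleCat.{u} A)) {P : Type v}
    (R : P → DeltaFunctor (ModuleCat.{u} A) (ModuleCat.{u} A)) where
  eff' : T'.Effaceable
  eff : T.Effaceable
  effR : ∀ p, (R p).Effaceable
  j : DeltaHom T' T
  c : ∀ p, DeltaHom T (R p)
  h0 : ∀ (M : ModuleCat.{u} A) (x : (T.T 0).obj M), (∀ p, (((c p).app 0).app M).hom x = 0) →
    ∃ x', ((j.app 0).app M).hom x' = x
  hcj : ∀ (M : ModuleCat.{u} A) (x : (T'.T 0).obj M) (p : P),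
    (((c p).app 0).app M).hom (((j.app 0).app M).hom x) = 0
  hj : ∀ (M : ModuleCat.{u} A), Function.Injective ((j.app 0).app M).hom
  hf : ∀ (M : ModuleCat.{u} A) (x : (T.T 0).obj M), {p | (((c p).app 0).app M).hom x ≠ 0}.Finite
  h1 : ∀ (E : ModuleCat.{u} A) [Injective E] (p : P) (r : ((R p).T 0).obj E),
    ∃ e : (T.T 0).obj E, (((c p).app 0).app E).hom e = r ∧ ∀ q, q ≠ p → (((c q).app 0).app E).hom e = 0

namespace Sit

variable {T' T : DeltaFunctor (ModuleCat.{u} A) (ModuleCat.{u} A)} {P : Type v}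
  {R : P → DeltaFunctor (ModuleCat.{u} A) (ModuleCat.{u} A)} (s : Sit T' T R)

/-- abbreviations -/
abbrev cc (i : ℕ) (M : ModuleCat.{u} A) (p : P) : (T.T i).obj M →ₗ[A] ((R p).T i).obj M :=
  (((s.c p).app i).app M).hom

/-- abbreviations -/
abbrev jj (i : ℕ) (M : ModuleCat.{u} A) : (T'.T i).obj M →ₗ[A] (T.T i).obj M :=
  ((s.j.app i).app M).hom

lemma lift (E : ModuleCat.{u} A) [Injective E] (r : ∀ p, ((R p).T 0).obj E)
    (hr : {p | r p ≠ 0}.Finite) : ∃ e : (T.T 0).obj E, ∀ p, s.cc 0 E p e = r p := by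
  classical
  choose e he he' using fun p => s.h1 E p (r p)
  refine ⟨∑ p ∈ hr.toFinset, e p, fun q => ?_⟩
  rw [map_sum]
  by_cases hq : q ∈ hr.toFinset
  · rw [Finset.sum_eq_single q]
    · exact he q
    · intro p _ hp
      exact he' p q (Ne.symm hp)
    · intro h
      exact absurd hq h
  · rw [Finset.sum_eq_zero]
    · have : ¬ r q ≠ 0 := by simpa using hq
      exact (not_not.1 this).symm
    · intro p hp
      refine he' p q ?_
      rintro rfl
      exact hq hp

/-- Choice of preimages with finite support. -/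
lemma exists_fin {P : Type v} {X Y : P → Type u} [∀ p, AddCommGroup (X p)] [∀ p, AddCommGroup (Y p)]
    (f : ∀ p, X p →+ Y p) (y : ∀ p, Y p) (hy : {p | y p ≠ 0}.Finite) (h : ∀ p, ∃ x, f p x = y p) :
    ∃ x : ∀ p, X p, (∀ p, f p (x p) = y p) ∧ {p | x p ≠ 0}.Finite := by
  classical
  choose x hx using h
  refine ⟨fun p => if y p = 0 then 0 else x p, fun p => ?_, hy.subset fun p hp => ?_⟩
  · change f p (if y p = 0 then 0 else x p) = y p
    by_cases h : y p = 0
    · rw [if_pos h, map_zero, h]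
    · rw [if_neg h, hx]
  · intro h
    exact hp (if_pos h)

/-- Exactness in the middle. -/
theorem exact_mid (i : ℕ) : ∀ (M : ModuleCat.{u} A) (y : (T.T i).obj M),
    (∀ p, s.cc i M p y = 0) → ∃ y', s.jj i M y' = y := by
  induction i with
  | zero => exact fun M y h => s.h0 M y h
  | succ i ih =>
    intro M y h
    obtain ⟨n, rfl⟩ := surj_δ T s.eff M i y
    have hS := injSES_shortExact M
    have h2 : ∀ p, ∃ r : ((R p).T i).obj (Injective.under M),
        (((R p).T i).map (injSES M).g).hom r = s.cc i _ p n := fun p =>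
      el3 (R p) hS i _ (by
        rw [← c_δ hS (s.c p) i n]
        exact h p)
    obtain ⟨e, he⟩ : ∃ e : (T.T i).obj (Injective.under M),
        ∀ p, s.cc i _ p (((T.T i).map (injSES M).g).hom e) = s.cc i _ p n := by
      rcases i with _ | i
      · obtain ⟨r, hr, hr'⟩ := exists_fin (fun p => (((R p).T 0).map (injSES M).g).hom.toAddMonoidHom)
          (fun p => s.cc 0 _ p n) (s.hf _ n) h2
        obtain ⟨e, he⟩ := s.lift _ r hr'
        refine ⟨e, fun p => ?_⟩
        refine (c_nat (s.c p) 0 (injSES M).g e).trans ?_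
        rw [he p]
        exact hr p
      · refine ⟨0, fun p => ?_⟩
        obtain ⟨r, hr⟩ := h2 p
        have := sub_eff (R p) (s.effR p) (Injective.under M) i
        rw [← hr, Subsingleton.elim r 0]
        simp only [map_zero]
    obtain ⟨n', hn'⟩ := ih (injSES M).X₃ (n - ((T.T i).map (injSES M).g).hom e) (fun p => by
      rw [map_sub, he p, sub_self])
    refine ⟨(T'.δ hS i).hom n', ?_⟩
    refine (c_δ hS s.j i n').trans ?_
    refine (congrArg (T.δ hS i).hom hn').trans ?_
    rw [map_sub, δ_map, sub_zero]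

/-- Killing the kernel of `T'_{i+1} → T_{i+1}`. -/
theorem map_eq_zero (i : ℕ) : ∀ {M M' : ModuleCat.{u} A} (φ : M ⟶ M'),
    (∀ p, ((R p).T i).map φ = 0) → ∀ y : (T'.T (i + 1)).obj M, s.jj (i + 1) M y = 0 →
      ((T'.T (i + 1)).map φ).hom y = 0 := by
  induction i using Nat.strong_induction_on with
  | _ i ih =>
    intro M M' φ hφ y hy
    obtain ⟨y₁, rfl⟩ := surj_δ T' s.eff' M i y
    have hS := injSES_shortExact M
    have hS' := injSES_shortExact M'
    obtain ⟨Φ, hΦ⟩ := exists_hom hS hS' φ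
    have hj1 : (T.δ hS i).hom (s.jj i _ y₁) = 0 := by
      rw [← c_δ hS s.j i y₁]
      exact hy
    obtain ⟨e, he⟩ := el3 T hS i _ hj1
    have hgoal : ((T'.T (i + 1)).map φ).hom ((T'.δ hS i).hom y₁) =
        (T'.δ hS' i).hom (((T'.T i).map Φ.τ₃).hom y₁) := by
      rw [← hΦ]
      exact δ_nat T' hS hS' Φ i y₁
    refine hgoal.trans ?_
    rcases i with _ | i
    · -- degree zero
      have h1 : ∀ p, s.cc 0 _ p (((T.T 0).map Φ.τ₂).hom e) = 0 := by
        intro p
        have h2 : (((R p).T 0).map (injSES M).g).hom (s.cc 0 _ p e) = 0 := by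
          rw [← c_nat (s.c p) 0 (injSES M).g e, he]
          exact s.hcj _ _ p
        obtain ⟨r, hr⟩ := el2 (R p) hS 0 _ h2
        refine (c_nat (s.c p) 0 Φ.τ₂ e).trans ?_
        rw [← hr, mapmap, ← Φ.comm₁₂, ← mapmap, hΦ, hφ p]
        exact map_zero _
      obtain ⟨e', he'⟩ := s.h0 _ _ h1
      have h3 : ((T'.T 0).map (injSES M').g).hom e' = ((T'.T 0).map Φ.τ₃).hom y₁ := by
        apply s.hj
        refine (c_nat s.j 0 (injSES M').g e').trans ?_
        rw [he']
        refine Eq.trans ?_ (c_nat s.j 0 Φ.τ₃ y₁).symm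
        rw [mapmap, Φ.comm₂₃, ← mapmap]
        exact congrArg _ he
      rw [← h3]
      exact δ_map T' hS' 0 e'
    · have hz := sub_eff T s.eff (Injective.under M) i
      have hj2 : s.jj (i + 1) _ y₁ = 0 := by
        rw [← he, Subsingleton.elim e 0, map_zero]
      rcases i with _ | i
      · -- degree one
        obtain ⟨n, rfl⟩ := surj_δ T' s.eff' _ 0 y₁
        have hS1 := injSES_shortExact (injSES M).X₃
        have hS1' := injSES_shortExact (injSES M').X₃
        obtain ⟨Ψ, hΨ⟩ := exists_hom hS1 hS1' Φ.τ₃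
        have hj3 : (T.δ hS1 0).hom (s.jj 0 _ n) = 0 := by
          rw [← c_δ hS1 s.j 0 n]
          exact hj2
        obtain ⟨e1, he1⟩ := el3 T hS1 0 _ hj3
        have h1 : ∀ p, ∃ r, (((R p).T 0).map (injSES (injSES M).X₃).f).hom r = s.cc 0 _ p e1 := by
          intro p
          refine el2 (R p) hS1 0 _ ?_
          rw [← c_nat (s.c p) 0 _ e1, he1]
          exact s.hcj _ _ p
        obtain ⟨r, hr, hr'⟩ := exists_fin
          (fun p => (((R p).T 0).map (injSES (injSES M).X₃).f).hom.toAddMonoidHom)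
          (fun p => s.cc 0 _ p e1) (s.hf _ e1) h1
        have h2 : ∀ p, ∃ t, (((R p).T 0).map (injSES M').g).hom t =
            (((R p).T 0).map Φ.τ₃).hom (r p) := by
          intro p
          refine el3 (R p) hS' 0 _ ?_
          rw [← δ_nat (R p) hS hS' Φ 0 (r p), hΦ, hφ p]
          rfl
        obtain ⟨t, ht, ht'⟩ := exists_fin (fun p => (((R p).T 0).map (injSES M').g).hom.toAddMonoidHom)
          (fun p => (((R p).T 0).map Φ.τ₃).hom (r p)) (hr'.subset fun p hp h => by
            apply hp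
            rw [h, map_zero]) h2
        obtain ⟨e', he'⟩ := s.lift _ t ht'
        let s' := ((T.T 0).map (injSES M').g).hom e'
        have hs' : ∀ p, s.cc 0 _ p s' = (((R p).T 0).map Φ.τ₃).hom (r p) := by
          intro p
          refine (c_nat (s.c p) 0 (injSES M').g e').trans ?_
          rw [he' p]
          exact ht p
        have h3 : ∀ p, s.cc 0 _ p (((T.T 0).map Ψ.τ₂).hom e1 -
            ((T.T 0).map (injSES (injSES M').X₃).f).hom s') = 0 := by
          intro p
          rw [map_sub]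
          have h4 : s.cc 0 _ p (((T.T 0).map Ψ.τ₂).hom e1) =
              (((R p).T 0).map (Φ.τ₃ ≫ (injSES (injSES M').X₃).f)).hom (r p) := by
            refine (c_nat (s.c p) 0 Ψ.τ₂ e1).trans ?_
            rw [← hΨ, Ψ.comm₁₂, ← mapmap]
            exact congrArg _ (hr p).symm
          have h5 : s.cc 0 _ p (((T.T 0).map (injSES (injSES M').X₃).f).hom s') =
              (((R p).T 0).map (Φ.τ₃ ≫ (injSES (injSES M').X₃).f)).hom (r p) := by
            refine (c_nat (s.c p) 0 (injSES (injSES M').X₃).f s').trans ?_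
            rw [hs' p, mapmap]
          rw [h4, h5, sub_self]
        obtain ⟨e3, he3⟩ := s.h0 _ _ h3
        have h6 : ((T'.T 0).map (injSES (injSES M').X₃).g).hom e3 = ((T'.T 0).map Ψ.τ₃).hom n := by
          apply s.hj
          refine (c_nat s.j 0 _ e3).trans ?_
          rw [he3, map_sub, mapmap, mapmap]
          refine Eq.trans ?_ (c_nat s.j 0 Ψ.τ₃ n).symm
          rw [(injSES (injSES M').X₃).zero, map_zero_hom, sub_zero, Ψ.comm₂₃, ← mapmap]
          exact congrArg _ he1
        have h7 : ((T'.T 1).map Φ.τ₃).hom ((T'.δ hS1 0).hom n) = 0 := by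
          rw [← hΨ, δ_nat T' hS1 hS1' Ψ 0 n, ← h6]
          exact δ_map T' hS1' 0 e3
        refine (congrArg (T'.δ hS' 1).hom h7).trans (map_zero _)
      · -- higher degrees
        have h1 : ((T'.T (i + 1 + 1)).map Φ.τ₃).hom y₁ = 0 := by
          refine ih (i + 1) (by omega) Φ.τ₃ (fun p => ?_) y₁ hj2
          ext r
          have h2 : ((R p).δ hS' (i + 1)).hom ((((R p).T (i + 1)).map Φ.τ₃).hom r) = 0 := by
            rw [← δ_nat (R p) hS hS' Φ (i + 1) r, hΦ, hφ p]
            rfl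
          obtain ⟨t, ht⟩ := el3 (R p) hS' (i + 1) _ h2
          have := sub_eff (R p) (s.effR p) (Injective.under M') i
          have h3 : (((R p).T (i + 1)).map Φ.τ₃).hom r = 0 := by
            rw [← ht, Subsingleton.elim t 0, map_zero]
          exact h3
        refine (congrArg (T'.δ hS' (i + 1 + 1)).hom h1).trans (map_zero _)

end Sit

end K165.HTAbs
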