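import Groth.Agent.LoccohA.ExtendT
import Groth.Agent.Localalg.DeltaFun

/-!
# `H^i_T` for a family of supports as an effaceable delta functor, with `H^0_T = Γ_T`
-/

set_option autoImplicit false
universe u

open CategoryTheory Opposite CategoryTheory.Limits

namespace K165.HTDelta

open Groth.Agent.Localalg.LCData Groth.Agent.Localalg.LCFam Groth.Agent.Localalg.DeltaFun
open Groth.Agent.LoccohA.LCTGam Groth.Agent.LoccohA.LCTBase Groth.Agent.LoccohA.ExtendT

variable {A : Type u} [CommRing A] (T : Set (PrimeSpectrum A))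

/-- `H^i_T` as a delta functor. -/
noncomputable def deltaT : DeltaFunctor (ModuleCat.{u} A) (ModuleCat.{u} A) where
  T n := localCohomology.ofDiagram.{u, u} (Dual2.idealsInDiagram T) n
  additive n := additive (cT T) n
  δ {_} hS n := ModuleCat.ofHom (δ (cT T) hS n (n + 1) rfl)
  naturality {S S'} hS hS' φ n := by
    ext x
    exact (δ_naturality (cT T) hS hS' φ n (n + 1) rfl x).symm
  zero₃ {S} hS n := by
    ext x
    exact δ_map_zero (cT T) hS n (n + 1) rfl x
  zero₁ {S} hS n := by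
    ext x
    exact map_δ_zero (cT T) hS n (n + 1) rfl x
  exact₂ {S} hS n := by
    rw [ShortComplex.moduleCat_exact_iff]
    intro y hy
    exact (exact₂ (cT T) hS n y).1 hy
  exact₃ {S} hS n := by
    rw [ShortComplex.moduleCat_exact_iff]
    intro y hy
    exact (exact₃ (cT T) hS n (n + 1) rfl y).1 hy
  exact₁ {S} hS n := by
    rw [ShortComplex.moduleCat_exact_iff]
    intro y hy
    exact (exact₁ (cT T) hS n (n + 1) rfl y).1 hy

lemma effaceable : (deltaT T).Effaceable := by
  intro J _ n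
  rw [ModuleCat.isZero_iff_subsingleton]
  exact subsingleton_of_injective (cT T) n J

/-- evaluation at `1` -/
noncomputable def evOne (k : Dual2.IdealsIn T) (M : ModuleCat.{u} A) : (qT T k ⟶ M) →ₗ[A] gam T M where
  toFun f := ⟨f.hom (Ideal.Quotient.mk _ 1), mem_gam_of _ ((Dual2.idealsInDiagram T).obj k) (toI_prop k)
    (fun a ha => by
      have : a • Ideal.Quotient.mk ((Dual2.idealsInDiagram T).obj k) 1 = 0 := by
        have h : a • Ideal.Quotient.mk ((Dual2.idealsInDiagram T).obj k) 1 =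
          Ideal.Quotient.mk ((Dual2.idealsInDiagram T).obj k) (a * 1) := rfl
        rw [h]
        exact Ideal.Quotient.eq_zero_iff_mem.mpr (Ideal.mul_mem_right _ _ ha)
      exact ((f.hom.map_smul a _).symm.trans (congrArg f.hom this)).trans (map_zero f.hom))⟩
  map_add' f g := rfl
  map_smul' r f := rfl

/-- The stage maps `Ext^0(A/J, M) → Γ_T(M)`. -/
noncomputable def zeroStage (k : Dual2.IdealsIn T) (M : ModuleCat.{u} A) :
    Abelian.Ext.{u} (qT T k) M 0 →ₗ[A] gam T M :=
  evOne T k M ∘ₗ (Abelian.Ext.linearEquiv₀ (R := A)).toLinearMap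

lemma zeroStage_mk₀ (k : Dual2.IdealsIn T) (M : ModuleCat.{u} A) (f : qT T k ⟶ M) :
    zeroStage T k M (Abelian.Ext.mk₀ f) = evOne T k M f := by
  have h : Abelian.Ext.linearEquiv₀ (R := A) (Abelian.Ext.mk₀ f) = f := by
    apply (Abelian.Ext.linearEquiv₀ (R := A)).symm.injective
    rw [LinearEquiv.symm_apply_apply]
    rfl
  change evOne T k M (Abelian.Ext.linearEquiv₀ (R := A) (Abelian.Ext.mk₀ f)) = _
  rw [h]

lemma exists_mk₀ {X Y : ModuleCat.{u} A} (x : Abelian.Ext X Y 0) :
    ∃ f : X ⟶ Y, Abelian.Ext.mk₀ f = x :=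
  ⟨_, Abelian.Ext.mk₀_linearEquiv₀_apply (R := A) x⟩

lemma zeroStage_compat (M : ModuleCat.{u} A) (s t : Dual2.IdealsIn T) (w : s ⟶ t)
    (x : Abelian.Ext.{u} (qT T t) M 0) :
    zeroStage T s M ((Abelian.Ext.mk₀ ((localCohomology.ringModIdeals (Dual2.idealsInDiagram T)).map w)).comp
      x (zero_add 0)) = zeroStage T t M x := by
  obtain ⟨f, rfl⟩ := exists_mk₀ x
  rw [Abelian.Ext.mk₀_comp_mk₀]
  refine (zeroStage_mk₀ T s M _).trans ?_
  refine Eq.trans ?_ (zeroStage_mk₀ T t M _).symm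
  rfl

/-- `H^0_T(M) → Γ_T(M)` -/
noncomputable def zeroMap (M : ModuleCat.{u} A) : ((deltaT T).T 0).obj M →ₗ[A] gam T M :=
  (cT T 0).desc M (ModuleCat.of A (gam T M)) (fun k => zeroStage T k M) (zeroStage_compat T M)

lemma zeroMap_ι (M : ModuleCat.{u} A) (k : Dual2.IdealsIn T) (f : qT T k ⟶ M) :
    zeroMap T M ((cT T 0).toH k M (Abelian.Ext.mk₀ f)) = evOne T k M f :=
  ((cT T 0).desc_toH M (ModuleCat.of A (gam T M)) (fun k => zeroStage T k M) (zeroStage_compat T M)
    k _).trans (zeroStage_mk₀ T k M f)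

lemma zeroMap_bijective (M : ModuleCat.{u} A) : Function.Bijective (zeroMap T M) := by
  constructor
  · rw [injective_iff_map_eq_zero]
    intro y hy
    obtain ⟨k, x, rfl⟩ := (cT T 0).exists_rep inferInstance M y
    obtain ⟨f, rfl⟩ := exists_mk₀ x
    rw [zeroMap_ι] at hy
    have hf : f = 0 := by
      apply ModuleCat.hom_ext
      refine LinearMap.ext fun y => ?_
      obtain ⟨y, rfl⟩ := Ideal.Quotient.mk_surjective y
      have h : Ideal.Quotient.mk ((Dual2.idealsInDiagram T).obj k) y =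
          y • Ideal.Quotient.mk ((Dual2.idealsInDiagram T).obj k) 1 := by
        change _ = Ideal.Quotient.mk ((Dual2.idealsInDiagram T).obj k) (y * 1)
        rw [mul_one]
      change f.hom (Ideal.Quotient.mk ((Dual2.idealsInDiagram T).obj k) y) = 0
      rw [h]
      have h2 : f.hom (Ideal.Quotient.mk ((Dual2.idealsInDiagram T).obj k) 1) = 0 := congrArg Subtype.val hy
      exact (f.hom.map_smul y _).trans (by rw [h2, smul_zero])
    rw [hf, Abelian.Ext.mk₀_zero, map_zero]
    rfl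
  · rintro ⟨x, hx⟩
    let J : Dual2.IdealsIn T := mkI T (Ideal.torsionOf A M x) hx
    let f : qT T J ⟶ M := ModuleCat.ofHom
      (Submodule.liftQ _ (LinearMap.toSpanSingleton A M x) (fun a ha => ha))
    refine ⟨(cT T 0).toH J M (Abelian.Ext.mk₀ f), ?_⟩
    rw [zeroMap_ι]
    apply Subtype.ext
    change (1 : A) • x = x
    exact one_smul _ _

/-- `H^0_T(M) → Γ_T(M)` -/
noncomputable def zeroHom (M : ModuleCat.{u} A) : ((deltaT T).T 0).obj M ⟶ (gamF T).obj M :=
  ModuleCat.ofHom (zeroMap T M)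

instance (M : ModuleCat.{u} A) : IsIso (zeroHom T M) :=
  (ConcreteCategory.isIso_iff_bijective _).2 (zeroMap_bijective T M)

/-- `H^0_T = Γ_T` as functors. -/
noncomputable def zeroIso : (deltaT T).T 0 ≅ gamF T :=
  NatIso.ofComponents (fun M => asIso (zeroHom T M)) (by
    intro M N f
    ext y
    obtain ⟨k, x, rfl⟩ := (cT T 0).exists_rep inferInstance M y
    obtain ⟨g, rfl⟩ := exists_mk₀ x
    change zeroMap T N ((((deltaT T).T 0).map f).hom ((cT T 0).toH k M (Abelian.Ext.mk₀ g))) =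
      ((gamF T).map f).hom (zeroMap T M ((cT T 0).toH k M (Abelian.Ext.mk₀ g)))
    have h1 := (cT T 0).natural k M N f (Abelian.Ext.mk₀ g)
    rw [Abelian.Ext.mk₀_comp_mk₀] at h1
    refine (congrArg (zeroMap T N) h1).trans ?_
    rw [zeroMap_ι]
    refine Eq.trans ?_ (congrArg ((gamF T).map f).hom (zeroMap_ι T M k g)).symm
    rfl)

/-- The comparison `H^i_{T'} → H^i_T` for `T' ⊆ T`. -/
theorem exists_j {T' : Set (PrimeSpectrum A)} (h : T' ⊆ T) :
    ∃ j : DeltaHom (deltaT T') (deltaT T),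
      j.app 0 = (zeroIso T').hom ≫ gamFmono h ≫ (zeroIso T).inv :=
  exists_deltaHom _ _ (effaceable T') _

end K165.HTDelta
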