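import Groth.Agent.LocCoh.K165.HTDelta
import Groth.Agent.LocCoh.K165.HTAbs
import Groth.Agent.Localalg.LCInst
import Groth.Agent.InjHull.K935.Loc
import Groth.Agent.CurvesB.InjLoc
import Mathlib.Algebra.Category.ModuleCat.ChangeOfRingsExact
import Mathlib.Algebra.Homology.ShortComplex.ExactFunctor
import Mathlib.RingTheory.Ideal.MinimalPrime.Noetherian
import Mathlib.Algebra.Module.LocalizedModule.Exact

/-!
# `H^i_T` and local cohomology at the minimal points of `T`

Over a Noetherian ring, for `T` stable under specialization with set of minimal points `P` and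
`T' = T ∖ P`, the delta functors `H_{T'} → H_T → ∏_{p ∈ P} H_{pA_p}((-)_p)` satisfy the
hypotheses of `K165.HTAbs.Sit`.
-/

set_option autoImplicit false
universe u

open CategoryTheory Opposite CategoryTheory.Limits

namespace K165.HTLoc

open Groth.Agent.Localalg.DeltaFun Groth.Agent.LoccohA.LCTGam K165.HTDelta
open Groth.Agent.Localalg.Gam Groth.Agent.Localalg.LCAbs

variable {A : Type u} [CommRing A]

section Lp

variable (S : Submonoid A)

/-- Localization of modules. -/
noncomputable def Lp : ModuleCat.{u} A ⥤ ModuleCat.{u} (Localization S) where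
  obj M := ModuleCat.of _ (LocalizedModule S M)
  map f := ModuleCat.ofHom (LocalizedModule.map S f.hom)
  map_id M := by
    ext x
    exact LinearMap.congr_fun (LocalizedModule.map_id (S := S) (M := M)) x
  map_comp {M N K} f g := by
    ext x
    change LocalizedModule.map S (g.hom.comp f.hom) x =
      LocalizedModule.map S g.hom (LocalizedModule.map S f.hom x)
    induction x using LocalizedModule.induction_on with
    | h m s => rw [LocalizedModule.map_mk, LocalizedModule.map_mk, LocalizedModule.map_mk]; rfl

instance : (Lp S).Additive where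
  map_add {M N f g} := by
    ext x
    change LocalizedModule.map S (f.hom + g.hom) x = _
    rw [map_add]
    rfl

lemma Lp_exact (C : ShortComplex (ModuleCat.{u} A)) (hC : C.Exact) : (C.map (Lp S)).Exact := by
  rw [ShortComplex.moduleCat_exact_iff] at hC ⊢
  have hx : Function.Exact C.f.hom C.g.hom := fun y => ⟨fun h => hC y h, by
    rintro ⟨x, rfl⟩
    exact ConcreteCategory.congr_hom C.zero x⟩
  intro (y : LocalizedModule S C.X₂) hy
  exact (LocalizedModule.map_exact S C.f.hom C.g.hom hx y).1 hy

instance : PreservesFiniteLimits (Lp S) :=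
  (((Functor.exact_tfae (Lp S)).out 1 3 rfl rfl).mp (Lp_exact S)).1

instance : PreservesFiniteColimits (Lp S) :=
  (((Functor.exact_tfae (Lp S)).out 1 3 rfl rfl).mp (Lp_exact S)).2

instance Lp_injective [IsNoetherianRing A] (E : ModuleCat.{u} A) [Injective E] :
    Injective ((Lp S).obj E) := by
  have h1 : Module.Injective A E := Module.injective_module_of_injective_object A E
  have h2 : Module.Baer (Localization S) (LocalizedModule S E) :=
    Groth.Agent.CurvesB.InjLoc.baer_of_isLocalizedModule S (Localization S)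
      (LocalizedModule.mkLinearMap S E) (Module.Baer.iff_injective.2 h1)
  have h3 : Module.Injective (Localization S) (LocalizedModule S E) := Module.Baer.iff_injective.1 h2
  exact Module.injective_object_of_injective_module (Localization S) (LocalizedModule S E)

end Lp

section Rp

variable (p : PrimeSpectrum A)

/-- `H^i_{pA_p}(M_p)` as a delta functor in `M`. -/
noncomputable def Rp : DeltaFunctor (ModuleCat.{u} A) (ModuleCat.{u} A) :=
  ((lc (IsLocalRing.maximalIdeal (Localization.AtPrime p.asIdeal))).D.precomp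
    (Lp p.asIdeal.primeCompl)).postcomp (ModuleCat.restrictScalars.{u}
      (algebraMap A (Localization.AtPrime p.asIdeal)))

lemma Rp_effaceable [IsNoetherianRing A] : (Rp p).Effaceable := by
  intro E _ n
  have h := (lc (IsLocalRing.maximalIdeal (Localization.AtPrime p.asIdeal))).eff
    ((Lp p.asIdeal.primeCompl).obj E) n
  exact (ModuleCat.restrictScalars.{u} (algebraMap A (Localization.AtPrime p.asIdeal))).map_isZero h

lemma Rp_map_eq_zero (i : ℕ) {M N : Type u} [AddCommGroup M] [Module A M] [AddCommGroup N] [Module A N]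
    (φ : M →ₗ[A] N)
    (h : (localCohomology (IsLocalRing.maximalIdeal (Localization.AtPrime p.asIdeal)) i).map
      (ModuleCat.ofHom (LocalizedModule.map p.asIdeal.primeCompl φ)) = 0) :
    ((Rp p).T i).map (ModuleCat.ofHom φ) = 0 := by
  have h1 : ((Rp p).T i).map (ModuleCat.ofHom φ) = (ModuleCat.restrictScalars.{u}
      (algebraMap A (Localization.AtPrime p.asIdeal))).map
      ((localCohomology (IsLocalRing.maximalIdeal (Localization.AtPrime p.asIdeal)) i).map
      (ModuleCat.ofHom (LocalizedModule.map p.asIdeal.primeCompl φ))) := rfl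
  rw [h1, h, Functor.map_zero]
  rfl

end Rp

section Zero

variable [IsNoetherianRing A] {T : Set (PrimeSpectrum A)}

/-- The minimal points of `T`. -/
def IsMin (T : Set (PrimeSpectrum A)) (p : PrimeSpectrum A) : Prop :=
  p ∈ T ∧ ∀ q ∈ T, q ≤ p → q = p

/-- Elements with support in `T` have power torsion image in `M_p`, `p` minimal in `T`. -/
lemma mk_mem_gam {p : PrimeSpectrum A} (hp : IsMin T p) {M : Type u} [AddCommGroup M] [Module A M]
    (x : M) (hx : x ∈ Groth.Agent.LoccohA.LCTGam.gam T M) :
    LocalizedModule.mk x (1 : p.asIdeal.primeCompl) ∈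
      Groth.Agent.Localalg.Gam.gam (IsLocalRing.maximalIdeal (Localization.AtPrime p.asIdeal))
        (LocalizedModule p.asIdeal.primeCompl M) := by
  let R' := Localization.AtPrime p.asIdeal
  let J : Ideal R' := (Ideal.torsionOf A M x).map (algebraMap A R')
  have h1 : IsLocalRing.maximalIdeal R' ≤ J.radical := by
    rw [Ideal.radical_eq_sInf]
    refine le_sInf fun Q hQ => ?_
    obtain ⟨hJQ, hQp⟩ := hQ
    have h2 : (⟨Q.comap (algebraMap A R'), hQp.comap _⟩ : PrimeSpectrum A) ∈ T := by
      refine hx ?_
      rw [PrimeSpectrum.mem_zeroLocus]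
      exact Ideal.map_le_iff_le_comap.1 hJQ
    have h3 : (⟨Q.comap (algebraMap A R'), hQp.comap _⟩ : PrimeSpectrum A) ≤ p := by
      change Q.comap (algebraMap A R') ≤ p.asIdeal
      have h4 : Q ≤ IsLocalRing.maximalIdeal R' := IsLocalRing.le_maximalIdeal hQp.ne_top
      have h5 := Ideal.comap_mono (f := algebraMap A R') h4
      exact h5.trans (IsLocalization.AtPrime.under_maximalIdeal R' p.asIdeal).le
    have h6 := congrArg PrimeSpectrum.asIdeal (hp.2 _ h2 h3)
    change Q.comap (algebraMap A R') = p.asIdeal at h6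
    have h7 : IsLocalRing.maximalIdeal R' = p.asIdeal.map (algebraMap A R') :=
      (Localization.AtPrime.map_eq_maximalIdeal (I := p.asIdeal)).symm
    rw [h7]
    exact Ideal.map_le_iff_le_comap.2 h6.ge
  obtain ⟨k, hk⟩ := Ideal.exists_pow_le_of_le_radical_of_fg h1 (IsNoetherian.noetherian _)
  refine ⟨k, fun a ha => ?_⟩
  have h7 : J ≤ Ideal.torsionOf R' (LocalizedModule p.asIdeal.primeCompl M)
      (LocalizedModule.mk x (1 : p.asIdeal.primeCompl)) := by
    refine Ideal.map_le_iff_le_comap.2 fun b hb => ?_
    rw [Ideal.mem_comap, Ideal.mem_torsionOf_iff, algebraMap_smul, LocalizedModule.smul'_mk]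
    rw [Ideal.mem_torsionOf_iff] at hb
    rw [hb, LocalizedModule.zero_mk]
  exact (Ideal.mem_torsionOf_iff _ _).1 (h7 (hk ha))

omit [IsNoetherianRing A] in
lemma mk_add1 (S : Submonoid A) {M : Type u} [AddCommGroup M] [Module A M] (x y : M) :
    (LocalizedModule.mk (x + y) 1 : LocalizedModule S M) =
      LocalizedModule.mk x 1 + LocalizedModule.mk y 1 := by
  rw [LocalizedModule.mk_add_mk, one_smul, one_smul, one_mul]

omit [IsNoetherianRing A] in
lemma mk_smul1 (S : Submonoid A) {M : Type u} [AddCommGroup M] [Module A M] (a : A) (x : M) :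
    (LocalizedModule.mk (a • x) 1 : LocalizedModule S M) =
      algebraMap A (Localization S) a • LocalizedModule.mk x 1 := by
  rw [algebraMap_smul, LocalizedModule.smul'_mk]

variable {p : PrimeSpectrum A} (hp : IsMin T p)

/-- The comparison map in degree zero, `Γ_T(M) → Γ_{pA_p}(M_p)`. -/
noncomputable def zc : gamF T ⟶ (Lp p.asIdeal.primeCompl ⋙
    gamFunctor.{u, u} (IsLocalRing.maximalIdeal (Localization.AtPrime p.asIdeal))) ⋙
      ModuleCat.restrictScalars.{u} (algebraMap A (Localization.AtPrime p.asIdeal)) where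
  app M := ModuleCat.ofHom (X := Groth.Agent.LoccohA.LCTGam.gam T M)
    (Y := (ModuleCat.restrictScalars.{u} (algebraMap A (Localization.AtPrime p.asIdeal))).obj
      ((gamFunctor.{u, u} (IsLocalRing.maximalIdeal (Localization.AtPrime p.asIdeal))).obj
        ((Lp p.asIdeal.primeCompl).obj M)))
    { toFun := fun x => (⟨LocalizedModule.mk x.1 1, mk_mem_gam hp x.1 x.2⟩ :
        Groth.Agent.Localalg.Gam.gam (IsLocalRing.maximalIdeal (Localization.AtPrime p.asIdeal))
          (LocalizedModule p.asIdeal.primeCompl M))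
      map_add' := fun x y => Subtype.ext (mk_add1 _ x.1 y.1)
      map_smul' := fun a x => Subtype.ext (mk_smul1 _ a x.1) }
  naturality M N f := by
    ext x
    apply Subtype.ext
    change LocalizedModule.mk (f.hom x.1) 1 =
      LocalizedModule.map p.asIdeal.primeCompl f.hom (LocalizedModule.mk x.1 1)
    rw [LocalizedModule.map_mk]

/-- The comparison map in degree zero. -/
noncomputable def c0 : (deltaT T).T 0 ⟶ (Rp p).T 0 :=
  (zeroIso T).hom ≫ zc hp ≫ Functor.whiskerRight (Functor.whiskerLeft (Lp p.asIdeal.primeCompl)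
    (lc (IsLocalRing.maximalIdeal (Localization.AtPrime p.asIdeal))).zero.inv)
      (ModuleCat.restrictScalars.{u} (algebraMap A (Localization.AtPrime p.asIdeal)))

/-- The identification of `(Rp p).T 0`. -/
noncomputable def rEquiv (p : PrimeSpectrum A) (M : ModuleCat.{u} A) : ((Rp p).T 0).obj M ≃
    Groth.Agent.Localalg.Gam.gam (IsLocalRing.maximalIdeal (Localization.AtPrime p.asIdeal))
      (LocalizedModule p.asIdeal.primeCompl M) :=
  ((lc (IsLocalRing.maximalIdeal (Localization.AtPrime p.asIdeal))).zero.app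
    ((Lp p.asIdeal.primeCompl).obj M)).toLinearEquiv.toEquiv

lemma rEquiv_c0 (M : ModuleCat.{u} A) (x : ((deltaT T).T 0).obj M) :
    (rEquiv p M (((c0 hp).app M).hom x)).1 = LocalizedModule.mk (zeroMap T M x).1 1 := by
  have h := ConcreteCategory.congr_hom
    (((lc (IsLocalRing.maximalIdeal (Localization.AtPrime p.asIdeal))).zero.app
    ((Lp p.asIdeal.primeCompl).obj M)).inv_hom_id)
    (⟨LocalizedModule.mk (zeroMap T M x).1 1, mk_mem_gam hp _ (zeroMap T M x).2⟩ :
        Groth.Agent.Localalg.Gam.gam (IsLocalRing.maximalIdeal (Localization.AtPrime p.asIdeal))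
          (LocalizedModule p.asIdeal.primeCompl M))
  exact congrArg Subtype.val h

omit [IsNoetherianRing A] in
lemma rEquiv_zero (p : PrimeSpectrum A) (M : ModuleCat.{u} A) : (rEquiv p M 0).1 = 0 := by
  have h := map_zero ((lc (IsLocalRing.maximalIdeal (Localization.AtPrime p.asIdeal))).zero.app
    ((Lp p.asIdeal.primeCompl).obj M)).toLinearEquiv
  exact congrArg Subtype.val h

lemma c0_eq_zero_iff (M : ModuleCat.{u} A) (x : ((deltaT T).T 0).obj M) :
    ((c0 hp).app M).hom x = 0 ↔ ∃ s : A, s ∉ p.asIdeal ∧ s • (zeroMap T M x).1 = 0 := by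
  have h1 : ((c0 hp).app M).hom x = 0 ↔
      LocalizedModule.mk (zeroMap T M x).1 (1 : p.asIdeal.primeCompl) = 0 := by
    rw [← rEquiv_c0 hp]
    constructor
    · intro h
      rw [h]
      exact rEquiv_zero p M
    · intro h
      apply (rEquiv p M).injective
      apply Subtype.ext
      rw [h, rEquiv_zero]
  rw [h1]
  refine (IsLocalizedModule.eq_zero_iff p.asIdeal.primeCompl
    (LocalizedModule.mkLinearMap p.asIdeal.primeCompl M)).trans ?_
  constructor
  · rintro ⟨s, hs⟩
    exact ⟨s.1, s.2, hs⟩
  · rintro ⟨s, hs, hsx⟩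
    exact ⟨⟨s, hs⟩, hsx⟩

end Zero

end K165.HTLoc
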