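import Groth.Agent.LocCoh.K165.HTSit

/-!
# Inverse systems and `H_T`
-/

set_option autoImplicit false
universe u

open CategoryTheory Opposite CategoryTheory.Limits

namespace K165.HTPro

open Groth.Agent.Localalg.DeltaFun K165.HTDelta K165.HTLoc K165.HTSit K165.HTAbs
open Groth.Agent.LoccohA.LCTBase Groth.Agent.LoccohA.ExtendT

variable {A : Type u} [CommRing A]

/-- Chains in `T` have length less than `e`. -/
def Dim (T : Set (PrimeSpectrum A)) (e : ℕ) : Prop := ∀ s : LTSeries ↥T, s.length < e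

lemma dim_of_krullDim {T : Set (PrimeSpectrum A)} {e : ℕ} (h : Order.krullDim ↥T ≤ (e : WithBot ℕ∞)) :
    Dim T (e + 1) := by
  intro s
  have h1 : ((s.length : ℕ∞) : WithBot ℕ∞) ≤ Order.krullDim ↥T := le_iSup_of_le s le_rfl
  have h2 : ((s.length : ℕ∞) : WithBot ℕ∞) ≤ ((e : ℕ∞) : WithBot ℕ∞) := h1.trans h
  have h3 : s.length ≤ e := by exact_mod_cast h2
  omega

lemma empty_of_dim {T : Set (PrimeSpectrum A)} (h : Dim T 0) : T = ∅ := by
  by_contra hne
  obtain ⟨p, hp⟩ := Set.nonempty_iff_ne_empty.2 hne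
  exact absurd (h (RelSeries.singleton _ (⟨p, hp⟩ : ↥T))) (Nat.not_lt_zero _)

lemma dim_nm {T : Set (PrimeSpectrum A)} {e : ℕ} (h : Dim T (e + 1)) : Dim (nm T) e := by
  intro s
  obtain ⟨h1, q, hq, hqs⟩ := s.head.2
  let f : ↥(nm T) → ↥T := fun p => ⟨p.1, p.2.1⟩
  have hf : StrictMono f := fun a b hab => hab
  let s' : LTSeries ↥T := s.map f hf
  have h2 : (⟨q, hq⟩ : ↥T) < s'.head := by
    change q < (f s.head).1
    exact hqs
  have h3 := h (s'.cons ⟨q, hq⟩ h2)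
  have h4 : (s'.cons ⟨q, hq⟩ h2).length = s.length + 1 := RelSeries.cons_length _ _ _
  omega

lemma exists_dim (hA : ringKrullDim A < ⊤) (T : Set (PrimeSpectrum A)) : ∃ e : ℕ, Dim T e := by
  have h1 : Order.krullDim ↥T ≤ ringKrullDim A :=
    Order.krullDim_le_of_strictMono (fun p : ↥T => p.1) (fun a b hab => hab)
  have h2 : ∃ e : ℕ, ringKrullDim A ≤ (e : WithBot ℕ∞) := by
    rcases hd : ringKrullDim A with _ | d
    · exact ⟨0, bot_le⟩
    · rw [hd] at hA
      have h3 : d ≠ ⊤ := by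
        rintro rfl
        exact lt_irrefl _ hA
      obtain ⟨n, rfl⟩ := ENat.ne_top_iff_exists.1 h3
      exact ⟨n, le_rfl⟩
  obtain ⟨e, he⟩ := h2
  exact ⟨e + 1, dim_of_krullDim (h1.trans he)⟩

lemma subsingleton_empty (i : ℕ) (M : ModuleCat.{u} A) :
    Subsingleton (((deltaT (∅ : Set (PrimeSpectrum A))).T i).obj M) := by
  refine subsingleton_of_forall_eq 0 fun y => ?_
  obtain ⟨k, x, rfl⟩ := (cT (∅ : Set (PrimeSpectrum A)) i).exists_rep inferInstance M y
  have h1 : (Dual2.idealsInDiagram (∅ : Set (PrimeSpectrum A))).obj k = ⊤ := by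
    have h2 := toI_prop k
    rw [Set.subset_empty_iff, PrimeSpectrum.zeroLocus_empty_iff_eq_top] at h2
    exact h2
  have h3 := Groth.Agent.Localalg.LCFam.smul_toH_eq_zero (cT (∅ : Set (PrimeSpectrum A))) i k M x 1 (by
    intro y
    obtain ⟨y, rfl⟩ := Ideal.Quotient.mk_surjective y
    have h4 : Ideal.Quotient.mk ((Dual2.idealsInDiagram (∅ : Set (PrimeSpectrum A))).obj k) y = 0 := by
      rw [Ideal.Quotient.eq_zero_iff_mem, h1]
      exact Submodule.mem_top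
    exact (one_smul A _).trans h4)
  rw [one_smul] at h3
  exact h3

section

variable (M : ℕ → Type u) [∀ n, AddCommGroup (M n)] [∀ n, Module A (M n)]
  (φ : ∀ k m : ℕ, m ≤ k → (M k →ₗ[A] M m))
  (hφ : ∀ (k l m : ℕ) (h₁ : m ≤ l) (h₂ : l ≤ k), φ k m (h₁.trans h₂) = φ l m h₁ ∘ₗ φ k l h₂)

include hφ in
lemma mapmap' (T : DeltaFunctor (ModuleCat.{u} A) (ModuleCat.{u} A)) (i : ℕ) (k l m : ℕ) (h₁ : m ≤ l)
    (h₂ : l ≤ k) (x : (T.T i).obj (ModuleCat.of A (M k))) :
    ((T.T i).map (ModuleCat.ofHom (φ l m h₁))).hom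
      (((T.T i).map (ModuleCat.ofHom (φ k l h₂))).hom x) =
      ((T.T i).map (ModuleCat.ofHom (φ k m (h₁.trans h₂)))).hom x := by
  rw [mapmap, hφ k l m h₁ h₂]
  rfl

variable [IsNoetherianRing A] (m' : ℕ → ℕ) (hm' : ∀ m, m ≤ m' m)

include hφ hm' in
/-- Vanishing of `H_T(M_k) → H_T(M_m)`. -/
theorem vanish (i : ℕ) (e : ℕ) : ∀ (T : Set (PrimeSpectrum A)) (_ : StableUnderSpecialization T) (_ : Dim T e)
    (_ : ∀ (p : PrimeSpectrum A), p ∈ T → ∀ (m k : ℕ) (h : m ≤ k), m' m ≤ k →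
      ((Rp p).T i).map (ModuleCat.ofHom (φ k m h)) = 0)
    (m k : ℕ) (h : m ≤ k) (_ : (m'^[e]) m ≤ k),
    ((deltaT T).T i).map (ModuleCat.ofHom (φ k m h)) = 0 := by
  induction e with
  | zero =>
    intro T _ hd _ m k h _
    obtain rfl := empty_of_dim hd
    ext x
    have := subsingleton_empty (A := A) i (ModuleCat.of A (M k))
    rw [Subsingleton.elim x 0, map_zero, map_zero]
  | succ e ih =>
    intro T hT hd hloc m k h hk
    obtain ⟨s⟩ := exists_sit hT
    rw [Function.iterate_succ_apply'] at hk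
    have hlm : ∀ n : ℕ, m ≤ (m'^[n]) m := by
      intro n
      induction n with
      | zero => exact le_rfl
      | succ n ihn => rw [Function.iterate_succ_apply']; exact ihn.trans (hm' _)
    set l := (m'^[e]) m with hl
    have h1 : m ≤ l := hlm e
    have h2 : l ≤ k := (hm' l).trans hk
    ext y
    let yl := (((deltaT T).T i).map (ModuleCat.ofHom (φ k l h2))).hom y
    have h3 : ∀ p : {p : PrimeSpectrum A // IsMin T p}, s.cc i _ p yl = 0 := by
      intro p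
      refine (c_nat (s.c p) i (ModuleCat.ofHom (φ k l h2)) y).trans ?_
      rw [hloc p.1 p.2.1 l k h2 hk]
      rfl
    obtain ⟨y', hy'⟩ := s.exact_mid i _ yl h3
    have h4 : (((deltaT (nm T)).T i).map (ModuleCat.ofHom (φ l m h1))).hom y' = 0 := by
      rw [ih (nm T) (nm_stable hT) (dim_nm hd)
        (fun p hp => hloc p (nm_subset T hp)) m l h1 le_rfl]
      rfl
    have h5 : (((deltaT T).T i).map (ModuleCat.ofHom (φ l m h1))).hom yl = 0 := by
      rw [← hy']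
      refine (c_nat s.j i (ModuleCat.ofHom (φ l m h1)) y').symm.trans ?_
      refine (congrArg _ h4).trans (map_zero _)
    have h6 := mapmap' M φ hφ (deltaT T) i k l m h1 h2 y
    rw [← h6]
    exact h5

include hφ in
/-- Stable images of `H_T(M_k) → H_T(M_m)`. -/
theorem stable (i : ℕ) (e : ℕ) : ∀ (T : Set (PrimeSpectrum A)) (_ : StableUnderSpecialization T) (_ : Dim T e)
    (_ : 0 < i → ∀ (p : PrimeSpectrum A), p ∈ T → ∀ (m k : ℕ) (h : m ≤ k), m' m ≤ k →
      ((Rp p).T (i - 1)).map (ModuleCat.ofHom (φ k m h)) = 0)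
    (_ : ∀ (p : PrimeSpectrum A), p ∈ T → ∀ (m k : ℕ) (h : m ≤ k), m' m ≤ k →
      ∀ x : ((Rp p).T i).obj (ModuleCat.of A (M k)),
        (((Rp p).T i).map (ModuleCat.ofHom (φ m 0 (Nat.zero_le m)))).hom
          ((((Rp p).T i).map (ModuleCat.ofHom (φ k m h))).hom x) = 0 →
            (((Rp p).T i).map (ModuleCat.ofHom (φ k m h))).hom x = 0),
    ∃ m₀ : ℕ, ∀ m : ℕ, ∀ (hm : m₀ ≤ m), ∃ m'' : ℕ, m ≤ m'' ∧ ∀ (k : ℕ) (h : m ≤ k), m'' ≤ k →
      ∀ x : ((deltaT T).T i).obj (ModuleCat.of A (M k)),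
        (((deltaT T).T i).map (ModuleCat.ofHom (φ m m₀ hm))).hom
          ((((deltaT T).T i).map (ModuleCat.ofHom (φ k m h))).hom x) = 0 →
            (((deltaT T).T i).map (ModuleCat.ofHom (φ k m h))).hom x = 0 := by
  induction e with
  | zero =>
    intro T _ hd _ _
    obtain rfl := empty_of_dim hd
    refine ⟨0, fun m hm => ⟨m, le_rfl, fun k h _ x _ => ?_⟩⟩
    have := subsingleton_empty (A := A) i (ModuleCat.of A (M m))
    exact Subsingleton.elim _ _
  | succ e ih =>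
    intro T hT hd h1 h2
    obtain ⟨s⟩ := exists_sit hT
    obtain ⟨n₀, hn₀⟩ := ih (nm T) (nm_stable hT) (dim_nm hd)
      (fun hi p hp => h1 hi p (nm_subset T hp)) (fun p hp => h2 p (nm_subset T hp))
    refine ⟨max n₀ (m' n₀), fun m hm => ?_⟩
    have hn0 : n₀ ≤ max n₀ (m' n₀) := le_max_left _ _
    obtain ⟨m₁, hm₁, hm₁'⟩ := hn₀ m (hn0.trans hm)
    refine ⟨max m₁ (m' m₁), hm₁.trans (le_max_left _ _), fun k h hk z hz => ?_⟩
    have hk1 : m₁ ≤ k := (le_max_left _ _).trans hk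
    have hk2 : m' m₁ ≤ k := (le_max_right _ _).trans hk
    let z₁ := (((deltaT T).T i).map (ModuleCat.ofHom (φ k m₁ hk1))).hom z
    have hz1 : (((deltaT T).T i).map (ModuleCat.ofHom (φ m₁ _ (hm.trans hm₁)))).hom z₁ = 0 := by
      rw [mapmap' M φ hφ (deltaT T) i k m₁ _ (hm.trans hm₁) hk1 z,
        ← mapmap' M φ hφ (deltaT T) i k m _ hm h z]
      exact hz
    have hc : ∀ p : {p : PrimeSpectrum A // IsMin T p}, s.cc i _ p z₁ = 0 := by
      intro p
      have hc1 : s.cc i _ p z₁ = (((Rp p.1).T i).map (ModuleCat.ofHom (φ k m₁ hk1))).hom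
          (s.cc i _ p z) := c_nat (s.c p) i (ModuleCat.ofHom (φ k m₁ hk1)) z
      rw [hc1]
      refine h2 p.1 p.2.1 m₁ k hk1 hk2 _ ?_
      rw [← hc1, ← mapmap' M φ hφ (Rp p.1) i m₁ _ 0 (Nat.zero_le _) (hm.trans hm₁)]
      have hc2 : (((Rp p.1).T i).map (ModuleCat.ofHom (φ m₁ _ (hm.trans hm₁)))).hom
          (s.cc i _ p z₁) = s.cc i _ p ((((deltaT T).T i).map
            (ModuleCat.ofHom (φ m₁ _ (hm.trans hm₁)))).hom z₁) :=
        (c_nat (s.c p) i (ModuleCat.ofHom (φ m₁ _ (hm.trans hm₁))) z₁).symm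
      rw [hc2, hz1, map_zero, map_zero]
    obtain ⟨w, hw⟩ := s.exact_mid i _ z₁ hc
    let w₀ := (((deltaT (nm T)).T i).map (ModuleCat.ofHom (φ m₁ _ (hm.trans hm₁)))).hom w
    have hw0 : s.jj i _ w₀ = 0 := by
      refine (c_nat s.j i (ModuleCat.ofHom (φ m₁ _ (hm.trans hm₁))) w).trans ?_
      rw [hw]
      exact hz1
    have hw1 : (((deltaT (nm T)).T i).map (ModuleCat.ofHom (φ _ n₀ hn0))).hom w₀ = 0 := by
      rcases i with _ | i
      · have : w₀ = 0 := by
          apply s.hj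
          rw [map_zero]
          exact hw0
        rw [this, map_zero]
      · exact s.map_eq_zero i (ModuleCat.ofHom (φ _ n₀ hn0))
          (fun p => h1 (Nat.succ_pos i) p.1 p.2.1 n₀ _ hn0 (le_max_right _ _)) w₀ hw0
    have hw2 : (((deltaT (nm T)).T i).map (ModuleCat.ofHom (φ m₁ m hm₁))).hom w = 0 := by
      refine hm₁' m₁ hm₁ le_rfl w ?_
      rw [mapmap' M φ hφ (deltaT (nm T)) i m₁ m n₀ (hn0.trans hm) hm₁ w,
        ← mapmap' M φ hφ (deltaT (nm T)) i m₁ _ n₀ hn0 (hm.trans hm₁) w]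
      exact hw1
    rw [← mapmap' M φ hφ (deltaT T) i k m₁ m hm₁ hk1 z]
    change (((deltaT T).T i).map (ModuleCat.ofHom (φ m₁ m hm₁))).hom z₁ = 0
    rw [← hw]
    refine (c_nat s.j i (ModuleCat.ofHom (φ m₁ m hm₁)) w).symm.trans ?_
    refine (congrArg _ hw2).trans (map_zero _)

end

end K165.HTPro
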