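import Groth.Agent.LocCoh.K165.HTLoc

/-!
# The localization sequence of `H_T` at the minimal points of `T`
-/

set_option autoImplicit false
universe u

open CategoryTheory Opposite CategoryTheory.Limits

namespace K165.HTSit

open Groth.Agent.Localalg.DeltaFun Groth.Agent.LoccohA.LCTGam K165.HTDelta K165.HTLoc

variable {A : Type u} [CommRing A] [IsNoetherianRing A] {T : Set (PrimeSpectrum A)}

/-- The non minimal points of `T`. -/
def nm (T : Set (PrimeSpectrum A)) : Set (PrimeSpectrum A) := {p | p ∈ T ∧ ∃ q ∈ T, q < p}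

omit [IsNoetherianRing A] in
lemma nm_subset (T : Set (PrimeSpectrum A)) : nm T ⊆ T := fun _ h => h.1

omit [IsNoetherianRing A] in
lemma nm_stable (hT : StableUnderSpecialization T) : StableUnderSpecialization (nm T) := by
  intro p p' h hp
  obtain ⟨hp1, q, hq, hqp⟩ := hp
  exact ⟨hT h hp1, q, hq, hqp.trans_le ((PrimeSpectrum.le_iff_specializes _ _).2 h)⟩

omit [IsNoetherianRing A] in
lemma isMin_or (p : PrimeSpectrum A) (hp : p ∈ T) : IsMin T p ∨ p ∈ nm T := by
  by_cases h : ∃ q ∈ T, q < p
  · exact Or.inr ⟨hp, h⟩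
  · refine Or.inl ⟨hp, fun q hq hqp => ?_⟩
    by_contra hne
    exact h ⟨q, hq, lt_of_le_of_ne hqp hne⟩

omit [IsNoetherianRing A] in
lemma not_mem_nm {p : PrimeSpectrum A} (hp : IsMin T p) : p ∉ nm T := by
  rintro ⟨-, q, hq, hqp⟩
  exact hqp.ne (hp.2 q hq hqp.le)

section

omit [IsNoetherianRing A]

lemma zeroMap_j {T' : Set (PrimeSpectrum A)} (h : T' ⊆ T) {j : DeltaHom (deltaT T') (deltaT T)}
    (hj : j.app 0 = (zeroIso T').hom ≫ gamFmono h ≫ (zeroIso T).inv) (M : ModuleCat.{u} A)
    (x : ((deltaT T').T 0).obj M) :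
    (zeroMap T M (((j.app 0).app M).hom x)).1 = (zeroMap T' M x).1 := by
  rw [hj]
  have h1 := ConcreteCategory.congr_hom ((zeroIso T).app M).inv_hom_id
    (((gamFmono h).app M).hom (zeroMap T' M x))
  exact congrArg Subtype.val h1

end

/-- Every power torsion element of `E_p`, `E` injective, comes from an element of `E` with support
in `V(p)`. -/
lemma exists_lift {p : PrimeSpectrum A} (E : Type u) [AddCommGroup E] [Module A E] [Module.Injective A E]
    (r : LocalizedModule p.asIdeal.primeCompl E)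
    (hr : r ∈ Groth.Agent.Localalg.Gam.gam
      (IsLocalRing.maximalIdeal (Localization.AtPrime p.asIdeal))
      (LocalizedModule p.asIdeal.primeCompl E)) :
    ∃ e : E, e ∈ gam (PrimeSpectrum.zeroLocus (p.asIdeal : Set A)) E ∧
      LocalizedModule.mk e (1 : p.asIdeal.primeCompl) = r := by
  classical
  obtain ⟨k, hk⟩ := hr
  induction r using LocalizedModule.induction_on with
  | h m s =>
    -- a common denominator killing `p ^ k m`
    have h1 : ∀ a ∈ p.asIdeal ^ k, ∃ t : p.asIdeal.primeCompl, t • a • m = 0 := by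
      intro a ha
      have h2 : algebraMap A (Localization.AtPrime p.asIdeal) a ∈
          IsLocalRing.maximalIdeal (Localization.AtPrime p.asIdeal) ^ k := by
        have h3 : IsLocalRing.maximalIdeal (Localization.AtPrime p.asIdeal) =
            p.asIdeal.map (algebraMap A (Localization.AtPrime p.asIdeal)) :=
          (Localization.AtPrime.map_eq_maximalIdeal (I := p.asIdeal)).symm
        rw [h3, ← Ideal.map_pow]
        exact Ideal.mem_map_of_mem _ ha
      have h4 := hk _ h2
      rw [algebraMap_smul, LocalizedModule.smul'_mk] at h4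
      have h5 : (LocalizedModule.mk (a • m) (1 : p.asIdeal.primeCompl)) = 0 := by
        have h6 : (LocalizedModule.mk (a • m) (1 : p.asIdeal.primeCompl)) =
            (s : A) • LocalizedModule.mk (a • m) s := by
          rw [LocalizedModule.smul'_mk, LocalizedModule.mk_eq]
          refine ⟨1, ?_⟩
          simp [Submonoid.smul_def]
        rw [h6, h4, smul_zero]
      exact (IsLocalizedModule.eq_zero_iff p.asIdeal.primeCompl
        (LocalizedModule.mkLinearMap p.asIdeal.primeCompl E)).1 h5
    obtain ⟨t, ht⟩ : ∃ t : p.asIdeal.primeCompl, ∀ a ∈ p.asIdeal ^ k, t • a • m = 0 := by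
      obtain ⟨G, hG⟩ := (IsNoetherian.noetherian (p.asIdeal ^ k) : (p.asIdeal ^ k).FG)
      have h7 : ∀ a : G, ∃ t : p.asIdeal.primeCompl, t • a.1 • m = 0 := fun a =>
        h1 a.1 (hG ▸ Submodule.subset_span a.2)
      choose t ht using h7
      refine ⟨∏ a, t a, fun a ha => ?_⟩
      have h8 : p.asIdeal ^ k ≤ Ideal.torsionOf A E (((∏ a, t a : p.asIdeal.primeCompl) : A) • m) := by
        rw [← hG]
        refine Submodule.span_le.2 fun b hb => ?_
        rw [SetLike.mem_coe, Ideal.mem_torsionOf_iff]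
        obtain ⟨c, hc⟩ := Finset.dvd_prod_of_mem t (Finset.mem_univ (⟨b, hb⟩ : G))
        rw [hc]
        have h9 : ((t ⟨b, hb⟩ : p.asIdeal.primeCompl) : A) • b • m = 0 := ht ⟨b, hb⟩
        rw [Submonoid.coe_mul, mul_comm, mul_smul, smul_comm b, smul_comm b, h9, smul_zero]
      have h10 := (Ideal.mem_torsionOf_iff _ _).1 (h8 ha)
      change ((∏ a, t a : p.asIdeal.primeCompl) : A) • a • m = 0
      rw [smul_comm]
      exact h10
    let Z := PrimeSpectrum.zeroLocus (p.asIdeal : Set A)
    have hmem : (t : A) • m ∈ gam Z E := by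
      refine mem_gam_of _ (p.asIdeal ^ k) (zeroLocus_pow_subset subset_rfl k) fun a ha => ?_
      rw [smul_comm]
      exact ht a ha
    have hinj : Module.Injective A (gam Z E) := gam_injective Z
    obtain ⟨g, hg⟩ := K935.Loc.mkLinearMap_surjective p.asIdeal.primeCompl (gam Z E)
      (LocalizedModule.mk ⟨(t : A) • m, hmem⟩ (t * s))
    refine ⟨g.1, g.2, ?_⟩
    have h11 := congrArg (LocalizedModule.map p.asIdeal.primeCompl (gam Z E).subtype) hg
    rw [LocalizedModule.mkLinearMap_apply, LocalizedModule.map_mk, LocalizedModule.map_mk] at h11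
    refine h11.trans ?_
    change LocalizedModule.mk (t • m) (t * s) = _
    rw [LocalizedModule.mk_cancel_common_left]

/-- The localization sequence. -/
theorem exists_sit (hT : StableUnderSpecialization T) :
    Nonempty (K165.HTAbs.Sit (deltaT (nm T)) (deltaT T)
      (fun p : {p : PrimeSpectrum A // IsMin T p} => Rp p.1)) := by
  obtain ⟨j, hj⟩ := exists_j T (nm_subset T)
  have hc : ∀ p : {p : PrimeSpectrum A // IsMin T p}, ∃ c : DeltaHom (deltaT T) (Rp p.1),
      c.app 0 = c0 p.2 := fun p => exists_deltaHom _ _ (effaceable T) _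
  choose c hc using hc
  have hcz : ∀ (M : ModuleCat.{u} A) (p : {p : PrimeSpectrum A // IsMin T p})
      (x : ((deltaT T).T 0).obj M), (((c p).app 0).app M).hom x = 0 ↔
        ∃ s : A, s ∉ p.1.asIdeal ∧ s • (zeroMap T M x).1 = 0 := by
    intro M p x
    rw [hc p]
    exact c0_eq_zero_iff p.2 M x
  refine ⟨{ eff' := effaceable _, eff := effaceable _, effR := fun p => Rp_effaceable p.1, j := j,
            c := c, h0 := ?_, hcj := ?_, hj := ?_, hf := ?_, h1 := ?_ }⟩
  · intro M x hx
    have h1 : (zeroMap T M x).1 ∈ gam (nm T) M := by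
      rw [mem_gam_iff]
      intro q hq
      have hqT := (mem_gam_iff _).1 (zeroMap T M x).2 hq
      rcases isMin_or q hqT with h | h
      · obtain ⟨s, hs, hs'⟩ := (hcz M ⟨q, h⟩ x).1 (hx ⟨q, h⟩)
        exact absurd (hq ((Ideal.mem_torsionOf_iff _ _).2 hs')) hs
      · exact h
    obtain ⟨x', hx'⟩ := (zeroMap_bijective (nm T) M).2 ⟨_, h1⟩
    refine ⟨x', ?_⟩
    apply (zeroMap_bijective T M).1
    apply Subtype.ext
    rw [zeroMap_j (nm_subset T) hj, hx']
  · intro M x p
    rw [hcz]
    have h1 := (mem_gam_iff _).1 (zeroMap (nm T) M x).2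
    have h2 : ¬ ((Ideal.torsionOf A M (zeroMap (nm T) M x).1 : Set A) ⊆ p.1.asIdeal) := by
      intro h
      exact not_mem_nm p.2 (h1 h)
    obtain ⟨s, hs, hs'⟩ := Set.not_subset.1 h2
    refine ⟨s, hs', ?_⟩
    rw [zeroMap_j (nm_subset T) hj]
    exact (Ideal.mem_torsionOf_iff _ _).1 hs
  · intro M
    rw [injective_iff_map_eq_zero]
    intro x hx
    apply (zeroMap_bijective (nm T) M).1
    apply Subtype.ext
    rw [← zeroMap_j (nm_subset T) hj]
    have h1 : zeroMap T M (((j.app 0).app M).hom x) = 0 := by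
      refine (congrArg (zeroMap T M) hx).trans (map_zero _)
    rw [h1, map_zero]
    rfl
  · intro M x
    have hinj : Set.InjOn (fun p : {p : PrimeSpectrum A // IsMin T p} => p.1.asIdeal)
        {p : {p : PrimeSpectrum A // IsMin T p} | (((c p).app 0).app M).hom x ≠ 0} :=
      fun a _ b _ hab => Subtype.ext (PrimeSpectrum.ext hab)
    refine Set.Finite.of_finite_image (Set.Finite.subset
      (Ideal.finite_minimalPrimes_of_isNoetherianRing A
        (Ideal.torsionOf A M (zeroMap T M x).1)) ?_) hinj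
    rintro _ ⟨p, hp, rfl⟩
    have hle : Ideal.torsionOf A M (zeroMap T M x).1 ≤ p.1.asIdeal := by
      intro s hs
      by_contra hs'
      exact hp ((hcz M p x).2 ⟨s, hs', (Ideal.mem_torsionOf_iff _ _).1 hs⟩)
    refine ⟨⟨p.1.isPrime, hle⟩, ?_⟩
    rintro Q ⟨hQ, hQ1⟩ hQp
    have h2 : (⟨Q, hQ⟩ : PrimeSpectrum A) ∈ T := (mem_gam_iff _).1 (zeroMap T M x).2 hQ1
    have h3 := congrArg PrimeSpectrum.asIdeal (p.2.2 _ h2 hQp)
    exact h3.ge
  · intro E _ p r
    have hE : Module.Injective A E := Module.injective_module_of_injective_object A E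
    obtain ⟨e, he, he'⟩ := exists_lift E (rEquiv p.1 E r).1 (rEquiv p.1 E r).2
    have hVT : PrimeSpectrum.zeroLocus (p.1.asIdeal : Set A) ⊆ T := by
      intro q hq
      exact hT ((PrimeSpectrum.le_iff_specializes p.1 q).1 hq) p.2.1
    obtain ⟨x, hx⟩ := (zeroMap_bijective T E).2 ⟨e, gam_mono hVT he⟩
    refine ⟨x, ?_, fun q hq => ?_⟩
    · rw [hc p]
      apply (rEquiv p.1 E).injective
      apply Subtype.ext
      rw [rEquiv_c0 p.2, hx]
      exact he'
    · rw [hcz, hx]
      by_contra hcon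
      have h4 : Ideal.torsionOf A E e ≤ q.1.asIdeal := by
        intro s hs
        by_contra hs'
        exact hcon ⟨s, hs', (Ideal.mem_torsionOf_iff _ _).1 hs⟩
      have h5 : q.1 ∈ PrimeSpectrum.zeroLocus (p.1.asIdeal : Set A) := (mem_gam_iff _).1 he h4
      have h6 : p.1 ≤ q.1 := h5
      exact hq (Subtype.ext (q.2.2 _ p.2.1 h6).symm)

end K165.HTSit
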