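import Groth.Agent.LoccohB.RGammaSup
import Groth.Agent.LoccohB.LBC2
import Groth.Agent.LoccohB.FInv

/-!
# Derived base change of torsion approximations

* `isTors_lbc`: the derived base change of an `I`-torsion object is `I B`-torsion (`I` f.g.).
* `exists_isApprox_lbc`: `φ^*(RΓ_I K) → φ^* K` is an `IB`-torsion approximation.
* `nonempty_lbc_rgamma`: `φ^*(RΓ_I K) ≅ RΓ_{IB}(φ^* K)` for Noetherian rings.
-/

set_option autoImplicit false

universe u

open CategoryTheory Limits Pretriangulated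

attribute [local instance] HasDerivedCategory.standard

namespace K165.LBCGam

open Groth.Agent.LoccohB Groth.Agent.LoccohB.FInv Groth.Agent.LoccohB.LBC
  Groth.Agent.LoccohB.LocTri

variable {A B : Type u} [CommRing A] [CommRing B] (φ : A →+* B) [DRing.HasLBaseChange φ]

lemma isIso_smul_restrictD (g : A) (C : Dual.D B) (hC : IsIso (φ g • 𝟙 C)) :
    IsIso (g • 𝟙 ((DRing.restrictD φ).obj C)) := by
  rw [← restrictD_map_smul_id]
  infer_instance

lemma isIso_smul_lbc (g : A) (C : Dual.D A) (hC : IsIso (g • 𝟙 C)) :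
    IsIso (φ g • 𝟙 ((DRing.LBaseChange φ).obj C)) := by
  have h := lbc_map_smul φ g (𝟙 C)
  rw [CategoryTheory.Functor.map_id] at h
  rw [← h]
  infer_instance

/-- base change of element-torsion objects -/
theorem elTor_lbc (g : A) (T : Dual.D A) (hT : ∀ i, ElTor g (Dual.HD A T i)) (i : ℤ) :
    ElTor (φ g) (Dual.HD B ((DRing.LBaseChange φ).obj T) i) := by
  obtain ⟨G, C, α, β, γ, hTri, hC, hG, -⟩ := exists_locTri (φ g) ((DRing.LBaseChange φ).obj T)
  have h1 : Subsingleton (T ⟶ (DRing.restrictD φ).obj C) :=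
    subsingleton_of_elTor g T _ hT (isIso_smul_restrictD φ g C hC)
  have hβ : β = 0 := by
    apply ((lbcAdj φ).homEquiv _ _).injective
    exact Subsingleton.elim _ _
  obtain ⟨s, hs⟩ := Triangle.coyoneda_exact₂ _ hTri (𝟙 _) (by
    change 𝟙 _ ≫ β = 0
    rw [hβ, comp_zero])
  change (DRing.LBaseChange φ).obj T ⟶ G at s
  change 𝟙 _ = s ≫ α at hs
  intro x
  let H := DerivedCategory.homologyFunctor (ModuleCat.{u} B) i
  obtain ⟨n, hn⟩ := hG i ((H.map s).hom x)
  refine ⟨n, ?_⟩
  have h2 : (H.map α).hom ((H.map s).hom x) = x := by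
    have h3 : H.map s ≫ H.map α = 𝟙 _ := by
      rw [← Functor.map_comp, ← hs, CategoryTheory.Functor.map_id]
    exact ConcreteCategory.congr_hom h3 x
  rw [← h2, ← map_smul]
  have h4 : (φ g) ^ n • (H.map s).hom x = 0 := hn
  rw [h4, map_zero]

/-- base change of torsion objects -/
theorem isTors_lbc (I : Ideal A) (hI : I.FG) (T : Dual.D A) (hT : IsTors I T) :
    IsTors (I.map φ) ((DRing.LBaseChange φ).obj T) := by
  obtain ⟨s, hs⟩ := hI
  have h1 : I.map φ = Ideal.span {x | x ∈ (s.toList.map φ)} := by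
    rw [← hs, Ideal.map_span]
    congr 1
    ext x
    simp
  intro i
  refine HDIBasic.isPowerTorsion_of_elTor (s.toList.map φ) _ h1 _ fun f hf => ?_
  obtain ⟨g, hg, rfl⟩ := List.mem_map.1 hf
  refine elTor_lbc φ g T (fun j => hT.elTor ?_ j) i
  rw [← hs]
  exact Ideal.subset_span (by simpa using hg)

open scoped Groth.Agent.LoccohB.LBC in
/-- base change of torsion approximations -/
theorem exists_isApprox_lbc (I : Ideal A) (hI : I.FG) (K : Dual.D A) :
    ∃ (G : Dual.D A) (α : G ⟶ K) (α' : (DRing.LBaseChange φ).obj G ⟶ (DRing.LBaseChange φ).obj K),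
      IsApprox I α ∧ IsApprox (I.map φ) α' := by
  obtain ⟨G, α, hα, α', hα'⟩ := exists_isApprox I hI K
    (fun G => ∃ α' : (DRing.LBaseChange φ).obj G ⟶ (DRing.LBaseChange φ).obj K,
      ∀ T : Dual.D B, IsTors (I.map φ) T → Function.Bijective
        (fun ψ : T ⟶ (DRing.LBaseChange φ).obj G => ψ ≫ α')) ⟨𝟙 _, fun T _ => bij_comp_hom T (Iso.refl _)⟩ (by
      rintro f hf G L C α β γ hT hC ⟨ε, hε⟩
      have hT' := Functor.map_distinguished (DRing.LBaseChange φ) _ hT
      have hC' := isIso_smul_lbc φ f C hC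
      refine ⟨(DRing.LBaseChange φ).map α ≫ ε, fun T hTt => ?_⟩
      have h3 : ∀ j : ℤ, Subsingleton (T ⟶ ((DRing.LBaseChange φ).obj C)⟦j⟧) := fun j => by
        refine subsingleton_of_elTor (φ f) T _ (fun i => hTt.elTor (Ideal.mem_map_of_mem φ hf) i) ?_
        have : (φ f) • 𝟙 (((DRing.LBaseChange φ).obj C)⟦j⟧) =
            ((φ f) • 𝟙 ((DRing.LBaseChange φ).obj C))⟦j⟧' := by
          rw [Functor.map_smul, CategoryTheory.Functor.map_id]
        rw [this]
        infer_instance
      have h4 := HDIBasic.bijective_comp_shift hT' T h3 0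
      have h5 : Function.Bijective (fun ψ : T ⟶ (DRing.LBaseChange φ).obj G =>
          ψ ≫ (DRing.LBaseChange φ).map α) := by
        let eG := (shiftFunctorZero (Dual.D B) ℤ).app ((DRing.LBaseChange φ).obj G)
        let eL := (shiftFunctorZero (Dual.D B) ℤ).app ((DRing.LBaseChange φ).obj L)
        have h6 : (fun ψ : T ⟶ (DRing.LBaseChange φ).obj G => ψ ≫ (DRing.LBaseChange φ).map α) =
            (fun ψ : T ⟶ ((DRing.LBaseChange φ).obj L)⟦(0 : ℤ)⟧ => ψ ≫ eL.hom) ∘
            (fun ψ : T ⟶ ((DRing.LBaseChange φ).obj G)⟦(0 : ℤ)⟧ =>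
              ψ ≫ ((DRing.LBaseChange φ).map α)⟦(0 : ℤ)⟧') ∘
              (fun ψ : T ⟶ (DRing.LBaseChange φ).obj G => ψ ≫ eG.inv) := by
          funext ψ
          simp only [Function.comp, Category.assoc]
          congr 1
          have := (shiftFunctorZero (Dual.D B) ℤ).hom.naturality ((DRing.LBaseChange φ).map α)
          simp only [Functor.id_map] at this
          rw [eq_comm, Iso.inv_comp_eq]
          exact this
        rw [h6]
        exact (bij_comp_hom T eL).comp (h4.comp (bij_comp_inv T eG))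
      have h7 : (fun ψ : T ⟶ (DRing.LBaseChange φ).obj G => ψ ≫ (DRing.LBaseChange φ).map α ≫ ε) =
          (fun ψ : T ⟶ (DRing.LBaseChange φ).obj L => ψ ≫ ε) ∘
          (fun ψ : T ⟶ (DRing.LBaseChange φ).obj G => ψ ≫ (DRing.LBaseChange φ).map α) := by
        funext ψ
        simp
      rw [h7]
      exact (hε T hTt).comp h5)
  exact ⟨G, α, α', hα, isTors_lbc φ I hI G hα.isTors, hα'⟩

lemma isApprox_ε [IsNoetherianRing A] (I : Ideal A) [DRing.HasRgammaI I] (K : Dual.D A) :
    IsApprox I ((DRing.RgammaIε I).app K) :=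
  ⟨RGammaTors.torsion_rgamma I K, fun T hT => RGammaTors.comp_ε_bijective I hT K⟩

/-- `φ^*(RΓ_I K) ≅ RΓ_{J}(φ^* K)` for `J`-torsion the same as `IB`-torsion. -/
theorem nonempty_lbc_rgamma [IsNoetherianRing A] [IsNoetherianRing B] (I : Ideal A) (J : Ideal B)
    [DRing.HasRgammaI I] [DRing.HasRgammaI J] (h : ∀ T : Dual.D B, IsTors (I.map φ) T ↔ IsTors J T)
    (K : Dual.D A) :
    Nonempty ((DRing.LBaseChange φ).obj ((DRing.RgammaI I).obj K) ≅
      (DRing.RgammaI J).obj ((DRing.LBaseChange φ).obj K)) := by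
  obtain ⟨G, α, α', hα, hα'⟩ := exists_isApprox_lbc φ I (IsNoetherian.noetherian I) K
  obtain ⟨e⟩ := (isApprox_ε I K).nonempty_iso hα
  have h1 : IsApprox J α' := ⟨(h _).1 hα'.isTors, fun T hT => hα'.bij T ((h T).2 hT)⟩
  obtain ⟨e'⟩ := h1.nonempty_iso (isApprox_ε J ((DRing.LBaseChange φ).obj K))
  exact ⟨(DRing.LBaseChange φ).mapIso e ≪≫ e'⟩

/-- Torsion depends only on the radical. -/
lemma isTors_iff_of_radical [IsNoetherianRing B] (I J : Ideal B) (h : I.radical = J.radical) (T : Dual.D B) :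
    IsTors I T ↔ IsTors J T := by
  have key : ∀ (I J : Ideal B), I.radical = J.radical → IsTors I T → IsTors J T := by
    intro I J h hT i x
    obtain ⟨n, hn⟩ := hT i x
    obtain ⟨k, hk⟩ := I.exists_radical_pow_le_of_fg (IsNoetherian.noetherian _)
    refine ⟨k * n, fun a ha => hn a ?_⟩
    have h2 : J ^ (k * n) ≤ I ^ n := by
      rw [pow_mul]
      refine Ideal.pow_right_mono ((Ideal.pow_right_mono (Ideal.le_radical.trans h.ge) k).trans hk) n
    exact h2 ha
  exact ⟨key I J h, key J I h.symm⟩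

theorem frobenius_case (p : ℕ) [Fact p.Prime] (A : Type u) [CommRing A] [IsNoetherianRing A] [CharP A p]
    (I : Ideal A) [DRing.HasRgammaI I] [DRing.HasLBaseChange (frobenius A p)] :
    Nonempty ((DRing.LBaseChange (frobenius A p)).obj ((DRing.RgammaI I).obj (Dual.inD A A)) ≅
      (DRing.RgammaI I).obj (Dual.inD A A)) := by
  have hr : (I.map (frobenius A p)).radical = I.radical := by
    apply le_antisymm
    · refine Ideal.radical_mono (Ideal.map_le_iff_le_comap.2 fun x hx => ?_)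
      rw [Ideal.mem_comap, frobenius_def]
      exact Ideal.pow_mem_of_mem _ hx _ (Fact.out : p.Prime).pos
    · refine Ideal.radical_le_radical_iff.2 fun x hx => ?_
      exact ⟨p, Ideal.mem_map_of_mem (frobenius A p) hx⟩
  obtain ⟨e⟩ := nonempty_lbc_rgamma (frobenius A p) I I
    (fun T => isTors_iff_of_radical _ _ hr T) (Dual.inD A A)
  exact ⟨e ≪≫ (DRing.RgammaI I).mapIso (lbcSelfIso (frobenius A p) 0)⟩

end K165.LBCGam
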