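import Groth.Agent.FormalB.PuncDelta
import Groth.Agent.FormalB.PuncTheta2
import Groth.Agent.FormalB.HMod
import Groth.Agent.Localalg.LCIface
import Groth.Agent.Localalg.NonVan

/-!
# Artinian cohomology on the punctured spectrum

* `isArtinian_TU_succ` : `H^(p+2)_𝔞(M)` Artinian implies `H^(p+1)(U, M~)` Artinian.
* `isArtinian_HH_of_coh`: `H^(p+1)(U, G)` is Artinian for `G` coherent on the punctured spectrum of a
  Noetherian local ring.
-/

set_option autoImplicit false
universe u

open CategoryTheory CategoryTheory.Limits AlgebraicGeometry Opposite TopologicalSpace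
open Groth.Agent.FormalB.PuncTheta Groth.Agent.FormalB.PuncTheta2 Groth.Agent.FormalB.HHDelta
  Groth.Agent.FormalB.GamZero Groth.Agent.FormalB.HMod
open Groth.Agent.Localalg.DeltaFun Groth.Agent.Localalg.LCAbs Groth.Agent.Localalg.Gam
open Groth.Agent.FormalB.PuncDelta

namespace K165.PuncArt

section Abs

open Groth.Agent.FormalB.DeltaComp

variable {A : Type u} [CommRing A] {I : Ideal A} (L : LC I)
  (T : DeltaFunctor (ModuleCat.{u} A) (ModuleCat.{u} A)) (η : 𝟭 (ModuleCat.{u} A) ⟶ T.T 0)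
  (hη : ∀ (J : ModuleCat.{u} A) [Injective J], Function.Surjective (η.app J).hom)
  (hη' : ∀ (M : ModuleCat.{u} A) (m : M), (η.app M).hom m = 0 ↔ m ∈ gam I M)
  (hT : ∀ {M N : ModuleCat.{u} A} (φ : M ⟶ N) [Mono φ], Function.Injective ((T.T 0).map φ).hom)
  (hJ : ∀ (J : ModuleCat.{u} A) [Injective J], IsZero ((T.T 1).obj J))

include L hη hη' hT in
theorem isArtinian_coker (M : ModuleCat.{u} A) (h : IsArtinian A (L.obj 1 M)) :
    IsArtinian A ((T.T 0).obj M ⧸ LinearMap.range (η.app M).hom) := by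
  obtain ⟨θ, hθ⟩ := exists_lift_range (p L T η M) (q (I := I) T η M) (q_surjective T η hη hη' M)
    (ker_p_le L T η hη' hT M)
  exact isArtinian_of_surjective _ θ hθ

include L hη hη' hT hJ in
theorem isArtinian_one (M : ModuleCat.{u} A) (h : IsArtinian A (L.obj 2 M)) :
    IsArtinian A ((T.T 1).obj M) := by
  have h1 : IsArtinian A (L.obj 1 (injSES M).X₃) :=
    isArtinian_of_injective _ (L_δ_injective L M)
  have h2 := isArtinian_coker L T η hη hη' hT _ h1
  refine isArtinian_of_surjective _ ((LinearMap.range (η.app (injSES M).X₃).hom).liftQ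
    (T.δ (injSES_shortExact M) 0).hom (range_le_ker T η M)) ?_
  intro y
  obtain ⟨x, rfl⟩ := δ_surjective T hJ M y
  exact ⟨Submodule.Quotient.mk x, rfl⟩

end Abs

variable {A : Type u} [CommRing A] [IsNoetherianRing A] (𝔞 : Ideal A)

theorem isArtinian_TU_succ (p : ℕ) : ∀ (M : ModuleCat.{u} A),
    IsArtinian A ((lc 𝔞).obj (p + 2) M) →
    IsArtinian A (((TU (LocCoh.puncturedOpen A 𝔞)).T (p + 1)).obj M) := by
  induction p with
  | zero =>
    intro M h
    exact isArtinian_one (lc 𝔞)
      (TU (LocCoh.puncturedOpen A 𝔞)) (η _)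
      (fun J _ => η_surjective _ J) (η_eq_zero_iff 𝔞) (fun φ _ => TU_zero_injective _ φ)
      (fun J _ => isZero_hh_injective _ J 0) M h
  | succ p ih =>
    intro M h
    have h1 : Function.Injective ((lc 𝔞).D.δ (injSES_shortExact M) (p + 2)).hom := by
      rw [← LinearMap.ker_eq_bot, eq_bot_iff]
      intro x hx
      obtain ⟨y, hy⟩ := (ShortComplex.moduleCat_exact_iff _).1
        ((lc 𝔞).D.exact₃ (injSES_shortExact M) (p + 2)) x hx
      have : y = 0 := by
        have h := (lc 𝔞).eff (injSES M).X₂ (p + 1)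
        exact (ModuleCat.subsingleton_of_isZero h).elim _ _
      rw [Submodule.mem_bot, ← hy, this]
      exact map_zero _
    have h2 : IsArtinian A ((lc 𝔞).obj (p + 2) (injSES M).X₃) :=
      isArtinian_of_injective _ h1
    have h3 := ih _ h2
    have h4 : Epi ((TU (LocCoh.puncturedOpen A 𝔞)).δ (injSES_shortExact M) (p + 1)) :=
      epi_δ _ (injSES_shortExact M) (p + 1) (isZero_hh_injective _ (injSES M).X₂ (p + 1))
    exact isArtinian_of_surjective _ _ ((ModuleCat.epi_iff_surjective _).1 h4)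

/-- `H^(p+1)(U, M~)` is Artinian when `H^(p+2)_𝔞(M)` is. -/
theorem isArtinian_HH_succ (M : Type u) [AddCommGroup M] [Module A M] (p : ℕ)
    (h : IsArtinian A (LocCoh.H 𝔞 (p + 2) M)) :
    IsArtinian A (Coh.HH (LocCoh.puncturedOpen A 𝔞 : Scheme.{u})
      ((Theta (LocCoh.puncturedOpen A 𝔞)).obj (ModuleCat.of A M)) (p + 1)) :=
  isArtinian_TU_succ 𝔞 p (ModuleCat.of A M) h

/-- `H^(p+1)(U, G)` is Artinian for `G` coherent on the punctured spectrum `U`. -/
theorem isArtinian_HH_of_coh [IsLocalRing A]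
    (G : (↑(LocCoh.puncturedOpen A (IsLocalRing.maximalIdeal A)) : Scheme.{u}).Modules)
    (hG : Coh.IsCoh G) (p : ℕ) :
    IsArtinian A (Coh.HH (↑(LocCoh.puncturedOpen A (IsLocalRing.maximalIdeal A)) : Scheme.{u}) G
      (p + 1)) := by
  have hU : IsCompact (LocCoh.puncturedOpen A (IsLocalRing.maximalIdeal A) :
      Set (Spec (CommRingCat.of A))) := Groth.Agent.FormalA.InjSec.isCompact_opens _
  obtain ⟨N, _, _, hN, ⟨e⟩⟩ := exists_finite_iso _ hU G hG
  have h0 := isArtinian_HH_succ (IsLocalRing.maximalIdeal A) N p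
    (Groth.Agent.Localalg.NonVan.isArtinian_H
      (Groth.Agent.Localalg.LCIface.iface (IsLocalRing.maximalIdeal A)) (p + 2) N)
  let E := ((HM A (LocCoh.puncturedOpen A (IsLocalRing.maximalIdeal A) :
    Scheme.{u}) (p + 1)).mapIso e).toLinearEquiv
  have h1 : IsArtinian A ((HM A (LocCoh.puncturedOpen A (IsLocalRing.maximalIdeal A) :
    Scheme.{u}) (p + 1)).obj ((Theta (LocCoh.puncturedOpen A (IsLocalRing.maximalIdeal A))).obj
      (ModuleCat.of A N))) := h0
  exact isArtinian_of_surjective _ E.toLinearMap E.surjective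

end K165.PuncArt
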