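import Groth.Agent.LoccohB.RGammaTors
import Groth.Agent.Localalg.DDual
import Groth.Agent.PerfA.HomologyLinear

/-!
# `RΓ_I` on objects on which an element of `I` acts invertibly, over any ring
-/

set_option autoImplicit false

universe u

open CategoryTheory Limits

attribute [local instance] HasDerivedCategory.standard

namespace K165.RGamF

open Groth.Agent.LoccohB.RGammaBasic Groth.Agent.LoccohB.RGammaTors

variable {A : Type u} [CommRing A] (I : Ideal A) [DRing.HasRgammaI I]

omit [DRing.HasRgammaI I] in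
lemma gCx_map_smul_id (a : A) (J : CochainComplex (ModuleCat.{u} A) ℤ) :
    (gCx I).map (a • 𝟙 J) = a • 𝟙 ((gCx I).obj J) := by
  ext n x
  rfl

/-- `RΓ_I` commutes with multiplication by a ring element (any ring). -/
theorem rg_map_smul_id (a : A) (K : Dual.D A) :
    (DRing.RgammaI I).map (a • 𝟙 K) = a • 𝟙 ((DRing.RgammaI I).obj K) := by
  obtain ⟨J, h1, h2, ⟨e⟩⟩ := Groth.Agent.LoccohB.KInjD.exists_res' A K
  have h3 := isIso_rg_app I J
  have h4 : (DRing.RgammaI I).map (a • 𝟙 (DerivedCategory.Q.obj J)) =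
      a • 𝟙 ((DRing.RgammaI I).obj (DerivedCategory.Q.obj J)) := by
    have h5 := (rg I).naturality (a • 𝟙 J)
    have h6 : (gCx I ⋙ DerivedCategory.Q).map (a • 𝟙 J) = a • 𝟙 (DerivedCategory.Q.obj ((gCx I).obj J)) := by
      rw [Functor.comp_map, gCx_map_smul_id, Functor.map_smul, CategoryTheory.Functor.map_id]
    have h7 : (DerivedCategory.Q ⋙ DRing.RgammaI I).map (a • 𝟙 J) =
        (DRing.RgammaI I).map (a • 𝟙 (DerivedCategory.Q.obj J)) := by
      rw [Functor.comp_map, Functor.map_smul, CategoryTheory.Functor.map_id]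
    rw [h6, h7] at h5
    rw [← cancel_epi ((rg I).app J)]
    refine h5.symm.trans ?_
    erw [Linear.smul_comp, Linear.comp_smul, Category.comp_id, Category.id_comp]
  have h8 : a • 𝟙 K = e.inv ≫ (a • 𝟙 (DerivedCategory.Q.obj J)) ≫ e.hom := by
    rw [Linear.smul_comp, Linear.comp_smul, Category.id_comp, e.inv_hom_id]
  rw [h8, Functor.map_comp, Functor.map_comp, h4, Linear.smul_comp, Linear.comp_smul, Category.id_comp,
    ← Functor.map_comp, e.inv_hom_id, CategoryTheory.Functor.map_id]

/-- If `f ∈ I` acts invertibly on `K` then `RΓ_I(K) = 0`. -/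
theorem isZero_of_isIso (K : Dual.D A) (f : A) (hf : f ∈ I) (hK : IsIso (f • 𝟙 K)) :
    IsZero ((DRing.RgammaI I).obj K) := by
  refine Groth.Agent.Localalg.DDual.isZero_of_HD _ fun i => ?_
  have h1 : IsIso (f • 𝟙 ((DRing.RgammaI I).obj K)) := by
    rw [← rg_map_smul_id]
    infer_instance
  have h2 : IsIso ((DerivedCategory.homologyFunctor (ModuleCat.{u} A) i).map
      (f • 𝟙 ((DRing.RgammaI I).obj K))) := inferInstance
  rw [Groth.Agent.PerfA.HomologyLinear.homologyFunctor_map_smul_id] at h2
  have h3 := ((ConcreteCategory.isIso_iff_bijective _).1 h2).1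
  have h4 := torsion_rgamma I K i
  refine subsingleton_of_forall_eq 0 fun x => ?_
  obtain ⟨n, hn⟩ := h4 x
  have h5 := hn (f ^ n) (Ideal.pow_mem_pow hf n)
  clear hn
  induction n with
  | zero => simpa using h5
  | succ n ih =>
    refine ih (h3 ?_)
    change f • (f ^ n • x) = f • 0
    rw [smul_zero, smul_smul, ← pow_succ', h5]

theorem main (K : CochainComplex (ModuleCat.{u} A) ℤ) (f : A) (hf : f ∈ I)
    (hK : ∀ n : ℤ, Function.Bijective (fun x : K.X n => f • x)) :
    IsZero ((DRing.RgammaI I).obj (DerivedCategory.Q.obj K)) := by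
  refine isZero_of_isIso I _ f hf ?_
  have h1 : ∀ n, IsIso ((f • 𝟙 K).f n) := by
    intro n
    rw [ConcreteCategory.isIso_iff_bijective]
    exact hK n
  have h2 : IsIso (f • 𝟙 K) := HomologicalComplex.Hom.isIso_of_components _
  have h3 : f • 𝟙 (DerivedCategory.Q.obj K) = DerivedCategory.Q.map (f • 𝟙 K) := by
    rw [Functor.map_smul, CategoryTheory.Functor.map_id]
  rw [h3]
  infer_instance

end K165.RGamF
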