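import Groth.Agent.LoccohA.TorLES
import Groth.Agent.CycA.TorBasic

/-!
# Elements of `Tor` of a sequential colimit come from a finite stage
-/

set_option autoImplicit false
universe u v

open CategoryTheory CategoryTheory.Limits MonoidalCategory

namespace K165.TorUnion

open Groth.Agent.LoccohA.TorLES

variable {A : Type u} [CommRing A]

section Tensor

variable (M : ℕ → Type u) [∀ n, AddCommGroup (M n)] [∀ n, Module A (M n)]
  (B : Type u) [AddCommGroup B] [Module A B]
  (τ : ∀ n m : ℕ, n ≤ m → (M n →ₗ[A] M m)) (f : ∀ n, M n →ₗ[A] B)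
  (hτ : ∀ (n m : ℕ) (h : n ≤ m), f m ∘ₗ τ n m h = f n)
  (hττ : ∀ (n m k : ℕ) (h : n ≤ m) (h' : m ≤ k), τ m k h' ∘ₗ τ n m h = τ n k (h.trans h'))
  (hs : ∀ b : B, ∃ n, ∃ x, f n x = b)
  (hk : ∀ (n : ℕ) (x : M n), f n x = 0 → ∃ (m : ℕ) (h : n ≤ m), τ n m h x = 0)
  (P : Type u) [AddCommGroup P] [Module A P]

include hτ hs in
lemma exists_rTensor (z : TensorProduct A B P) : ∃ n, ∃ w : TensorProduct A (M n) P,
    (f n).rTensor P w = z := by
  induction z with
  | zero => exact ⟨0, 0, map_zero _⟩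
  | tmul b p =>
    obtain ⟨n, x, rfl⟩ := hs b
    exact ⟨n, x ⊗ₜ[A] p, rfl⟩
  | add x y hx hy =>
    obtain ⟨n, w, rfl⟩ := hx
    obtain ⟨m, v, rfl⟩ := hy
    refine ⟨max n m, (τ n _ (le_max_left n m)).rTensor P w + (τ m _ (le_max_right n m)).rTensor P v, ?_⟩
    rw [map_add, ← LinearMap.comp_apply, ← LinearMap.comp_apply, ← LinearMap.rTensor_comp,
      ← LinearMap.rTensor_comp, hτ, hτ]

include hττ hk in
lemma exists_rTensor_eq_zero [Module.Flat A P] (n : ℕ) (z : TensorProduct A (M n) P)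
    (hz : (f n).rTensor P z = 0) : ∃ (m : ℕ) (h : n ≤ m), (τ n m h).rTensor P z = 0 := by
  have h1 : Function.Exact ((LinearMap.ker (f n)).subtype.rTensor P) ((f n).rTensor P) :=
    Module.Flat.rTensor_exact P (LinearMap.exact_subtype_ker_map (f n))
  obtain ⟨w, rfl⟩ := (h1 z).1 hz
  clear hz
  induction w with
  | zero => exact ⟨n, le_rfl, by rw [map_zero, map_zero]⟩
  | tmul b p =>
    obtain ⟨m, h, hm⟩ := hk n b.1 b.2
    refine ⟨m, h, ?_⟩
    rw [LinearMap.rTensor_tmul, LinearMap.rTensor_tmul]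
    change (τ n m h b.1) ⊗ₜ[A] p = 0
    rw [hm, TensorProduct.zero_tmul]
  | add x y hx hy =>
    obtain ⟨m, h, hm⟩ := hx
    obtain ⟨k, h', hk'⟩ := hy
    refine ⟨max m k, h.trans (le_max_left _ _), ?_⟩
    rw [map_add, map_add]
    conv_lhs =>
      congr
      · rw [← hττ n m _ h (le_max_left m k), LinearMap.rTensor_comp, LinearMap.comp_apply, hm, map_zero]
      · rw [← hττ n k _ h' (le_max_right m k), LinearMap.rTensor_comp, LinearMap.comp_apply, hk', map_zero]
    rw [add_zero]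

end Tensor

section Tor

variable (M : ℕ → Type u) [∀ n, AddCommGroup (M n)] [∀ n, Module A (M n)]
  (B : Type u) [AddCommGroup B] [Module A B]
  (τ : ∀ n m : ℕ, n ≤ m → (M n →ₗ[A] M m)) (f : ∀ n, M n →ₗ[A] B)
  (hτ : ∀ (n m : ℕ) (h : n ≤ m), f m ∘ₗ τ n m h = f n)
  (hττ : ∀ (n m k : ℕ) (h : n ≤ m) (h' : m ≤ k), τ m k h' ∘ₗ τ n m h = τ n k (h.trans h'))
  (hs : ∀ b : B, ∃ n, ∃ x, f n x = b)
  (hk : ∀ (n : ℕ) (x : M n), f n x = 0 → ∃ (m : ℕ) (h : n ≤ m), τ n m h x = 0)

include hτ hττ hs hk in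
lemma exists_homology (P : ChainComplex (ModuleCat.{u} A) ℕ) (hP : ∀ n, Module.Flat A (P.X n)) (i : ℕ)
    (y : ((tcx P).obj (ModuleCat.of A B)).homology i) :
    ∃ (n : ℕ) (y' : ((tcx P).obj (ModuleCat.of A (M n))).homology i),
      (HomologicalComplex.homologyMap ((tcx P).map (ModuleCat.ofHom (f n))) i).hom y' = y := by
  obtain ⟨z, rfl⟩ : ∃ z, (((tcx P).obj (ModuleCat.of A B)).homologyπ i).hom z = y :=
    (ModuleCat.epi_iff_surjective _).1 inferInstance y
  let j := (ComplexShape.down ℕ).next i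
  let z0 : TensorProduct A B (P.X i) := (((tcx P).obj (ModuleCat.of A B)).iCycles i).hom z
  obtain ⟨n, z1, hz1⟩ := exists_rTensor M B τ f hτ hs (P.X i) z0
  have hflat := hP j
  let w1 : TensorProduct A (M n) (P.X j) := (((tcx P).obj (ModuleCat.of A (M n))).d i j).hom z1
  have hw1 : (f n).rTensor (P.X j) w1 = 0 := by
    have h1 := ConcreteCategory.congr_hom (((tcx P).map (ModuleCat.ofHom (f n))).comm i j) z1
    have h2 : (f n).rTensor (P.X j) w1 = (((tcx P).obj (ModuleCat.of A B)).d i j).hom z0 := by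
      rw [← hz1]
      exact h1.symm
    rw [h2]
    exact ConcreteCategory.congr_hom (((tcx P).obj (ModuleCat.of A B)).iCycles_d i j) z
  obtain ⟨m, hnm, hm⟩ := exists_rTensor_eq_zero M B τ f hττ hk (P.X j) n w1 hw1
  let z2 : ((tcx P).obj (ModuleCat.of A (M m))).X i := (τ n m hnm).rTensor (P.X i) z1
  have hz2 : (((tcx P).obj (ModuleCat.of A (M m))).d i j).hom z2 = 0 := by
    have h1 := ConcreteCategory.congr_hom (((tcx P).map (ModuleCat.ofHom (τ n m hnm))).comm i j) z1
    exact h1.trans hm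
  let k : ModuleCat.of A A ⟶ ((tcx P).obj (ModuleCat.of A (M m))).X i :=
    ModuleCat.ofHom (LinearMap.toSpanSingleton A _ z2)
  have hkd : k ≫ ((tcx P).obj (ModuleCat.of A (M m))).d i j = 0 := by
    ext
    change (((tcx P).obj (ModuleCat.of A (M m))).d i j).hom ((1 : A) • z2) = 0
    rw [one_smul, hz2]
  let c : ((tcx P).obj (ModuleCat.of A (M m))).cycles i :=
    (((tcx P).obj (ModuleCat.of A (M m))).liftCycles k j rfl hkd).hom (1 : A)
  have hc : (((tcx P).obj (ModuleCat.of A (M m))).iCycles i).hom c = z2 := by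
    have h1 := ConcreteCategory.congr_hom
      (((tcx P).obj (ModuleCat.of A (M m))).liftCycles_i k j rfl hkd) (1 : A)
    refine Eq.trans h1 ?_
    change (1 : A) • z2 = z2
    rw [one_smul]
  refine ⟨m, (((tcx P).obj (ModuleCat.of A (M m))).homologyπ i).hom c, ?_⟩
  have h3 := ConcreteCategory.congr_hom
    (HomologicalComplex.homologyπ_naturality ((tcx P).map (ModuleCat.ofHom (f m))) i) c
  refine Eq.trans h3 ?_
  change (((tcx P).obj (ModuleCat.of A B)).homologyπ i).hom
    ((HomologicalComplex.cyclesMap ((tcx P).map (ModuleCat.ofHom (f m))) i).hom c) = _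
  congr 1
  apply (ModuleCat.mono_iff_injective (((tcx P).obj (ModuleCat.of A B)).iCycles i)).1 inferInstance
  have h4 := ConcreteCategory.congr_hom
    (HomologicalComplex.cyclesMap_i ((tcx P).map (ModuleCat.ofHom (f m))) i) c
  refine Eq.trans h4 ?_
  change (f m).rTensor (P.X i) ((((tcx P).obj (ModuleCat.of A (M m))).iCycles i).hom c) = z0
  rw [hc, ← hz1]
  change (f m).rTensor (P.X i) ((τ n m hnm).rTensor (P.X i) z1) = _
  rw [← LinearMap.comp_apply, ← LinearMap.rTensor_comp, hτ]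

include hτ hττ hs hk in
/-- Every element of `Tor_i(colim M_n, N)` comes from `Tor_i(M_n, N)` for some `n`. -/
theorem exists_mapL (N : Type u) [AddCommGroup N] [Module A N] (i : ℕ) (y : DRing.Tor A i B N) :
    ∃ (n : ℕ) (y' : DRing.Tor A i (M n) N), Groth.Agent.CycA.TorBasic.mapL (f n) i N y' = y := by
  let P := projectiveResolution (ModuleCat.of A N)
  obtain ⟨n, y', hy'⟩ := exists_homology M B τ f hτ hττ hs hk P.complex (resolution_flat P) i
    ((torIso P i (ModuleCat.of A B)).hom.hom y)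
  refine ⟨n, (torIso P i (ModuleCat.of A (M n))).inv.hom y', ?_⟩
  have h1 := ConcreteCategory.congr_hom (torIso_hom_naturality P i (ModuleCat.ofHom (f n)))
    ((torIso P i (ModuleCat.of A (M n))).inv.hom y')
  have h2 : (torIso P i (ModuleCat.of A (M n))).hom.hom ((torIso P i (ModuleCat.of A (M n))).inv.hom y') = y' :=
    ConcreteCategory.congr_hom (torIso P i (ModuleCat.of A (M n))).inv_hom_id y'
  have h3 : Function.Injective (torIso P i (ModuleCat.of A B)).hom.hom :=
    ((ConcreteCategory.isIso_iff_bijective (torIso P i (ModuleCat.of A B)).hom).1 inferInstance).1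
  apply h3
  refine Eq.trans h1 ?_
  change (HomologicalComplex.homologyMap ((tcx P.complex).map (ModuleCat.ofHom (f n))) i).hom
    ((torIso P i (ModuleCat.of A (M n))).hom.hom ((torIso P i (ModuleCat.of A (M n))).inv.hom y')) = _
  rw [h2, hy']

end Tor

end K165.TorUnion
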