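import Groth.Agent.Localalg.LCInst
import Mathlib.Algebra.Homology.ShortComplex.ExactFunctor
import Mathlib.RingTheory.Derivation.Basic

/-!
# Derivations act on local cohomology

For a derivation `θ` of `A` let `P(M)` be `M ⊕ M` with `a • (m, m') = (a m, a m' + θ(a) m)`.  This is an
exact functor, an additive operator on `M` with the Leibniz rule with respect to `θ` is the same as a section
of `P(M) → M`, and `P` commutes with any effaceable delta functor extending `Γ_I`.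
-/

set_option autoImplicit false
universe u v

open CategoryTheory CategoryTheory.Limits Category
open Groth.Agent.Localalg.DeltaFun Groth.Agent.Localalg.Gam Groth.Agent.Localalg.LCAbs

namespace K165.TwP

variable {A : Type u} [CommRing A] (θ : Derivation ℤ A A)

section Abs

variable {C : Type*} [Category* C]

lemma abs1 {X₁ X₂ X₃ X₄ Y Z : C} {a : X₁ ⟶ X₂} {b : X₂ ⟶ X₃} {c : X₃ ⟶ X₄} {q : X₄ ⟶ Y} {q' : X₃ ⟶ Z}
    {c' : Z ⟶ Y} {g : X₂ ⟶ Z} {t : X₁ ⟶ Y} {a' : Y ⟶ Z} (hc : c ≫ q = q' ≫ c') (hb : b ≫ q' = g)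
    (ha : t ≫ a' = a ≫ g) (h0 : a' ≫ c' = 𝟙 Y) : (a ≫ b ≫ c) ≫ q = t := by
  rw [assoc, assoc, hc, reassoc_of% hb, ← reassoc_of% ha, h0, comp_id]

lemma abs2 {X X' Y Y' Z Z' : C} {φ : X ⟶ Y} {φ' : X' ⟶ Y'} {δ' : X ⟶ X'} {pδ : Y ⟶ Y'} {q : Y ⟶ Z}
    {q' : Y' ⟶ Z'} {δ : Z ⟶ Z'} (h1 : φ ≫ pδ = δ' ≫ φ') (h2 : pδ ≫ q' = q ≫ δ) :
    (φ ≫ q) ≫ δ = δ' ≫ (φ' ≫ q') := by
  rw [assoc, ← h2, reassoc_of% h1]

end Abs

section Def

variable (M : Type v) [AddCommGroup M] [Module A M]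

/-- `M ⊕ M` with the twisted action. -/
def Tw (_ : Derivation ℤ A A) (M : Type v) : Type v := M × M

instance : AddCommGroup (Tw θ M) := inferInstanceAs (AddCommGroup (M × M))

instance : SMul A (Tw θ M) := ⟨fun a m => (a • m.1, a • m.2 + θ a • m.1)⟩

variable {M} in
lemma smul_def (a : A) (m : Tw θ M) : a • m = ((a • m.1, a • m.2 + θ a • m.1) : M × M) := rfl

instance : Module A (Tw θ M) where
  one_smul m := by
    rw [smul_def, Derivation.map_one_eq_zero, zero_smul, one_smul, one_smul, add_zero]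
    rfl
  mul_smul a b m := by
    rw [smul_def, smul_def, smul_def]
    refine Prod.ext (mul_smul _ _ _) ?_
    change (a * b) • m.2 + θ (a * b) • m.1 = a • (b • m.2 + θ b • m.1) + θ a • b • m.1
    rw [Derivation.leibniz, add_smul, mul_smul, smul_add, smul_eq_mul, smul_eq_mul, mul_smul, mul_smul,
      smul_comm b (θ a) m.1, add_assoc]
  smul_zero a := by
    rw [smul_def]
    refine Prod.ext (smul_zero _) ?_
    change a • (0 : M) + θ a • (0 : M) = 0
    rw [smul_zero, smul_zero, add_zero]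
  smul_add a m m' := by
    rw [smul_def, smul_def, smul_def]
    refine Prod.ext (smul_add _ _ _) ?_
    change a • (m.2 + m'.2) + θ a • (m.1 + m'.1) = (a • m.2 + θ a • m.1) + (a • m'.2 + θ a • m'.1)
    rw [smul_add, smul_add]
    abel
  add_smul a b m := by
    rw [smul_def, smul_def, smul_def]
    refine Prod.ext (add_smul _ _ _) ?_
    change (a + b) • m.2 + θ (a + b) • m.1 = (a • m.2 + θ a • m.1) + (b • m.2 + θ b • m.1)
    rw [map_add, add_smul, add_smul]
    abel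
  zero_smul m := by
    rw [smul_def]
    refine Prod.ext (zero_smul _ _) ?_
    change (0 : A) • m.2 + θ 0 • m.1 = 0
    rw [map_zero, zero_smul, zero_smul, add_zero]

variable {M}

/-- functoriality -/
def Tw.map {N : Type v} [AddCommGroup N] [Module A N] (f : M →ₗ[A] N) : Tw θ M →ₗ[A] Tw θ N where
  toFun m := (f m.1, f m.2)
  map_add' m m' := Prod.ext (map_add f _ _) (map_add f _ _)
  map_smul' a m := by
    rw [smul_def, smul_def]
    refine Prod.ext (map_smul f _ _) ?_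
    change f (a • m.2 + θ a • m.1) = a • f m.2 + θ a • f m.1
    rw [map_add, map_smul, map_smul]

/-- the projection to the first factor -/
def Tw.fst : Tw θ M →ₗ[A] M where
  toFun m := m.1
  map_add' _ _ := rfl
  map_smul' _ _ := rfl

/-- the inclusion of the second factor -/
def Tw.inr : M →ₗ[A] Tw θ M where
  toFun m := (0, m)
  map_add' m m' := Prod.ext (add_zero _).symm rfl
  map_smul' a m := by
    rw [smul_def]
    refine Prod.ext (smul_zero _).symm ?_
    change a • m = a • m + θ a • (0 : M)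
    rw [smul_zero, add_zero]

/-- the section attached to a Leibniz operator -/
def Tw.sec (d : M →+ M) (hd : ∀ (a : A) (m : M), d (a • m) = θ a • m + a • d m) : M →ₗ[A] Tw θ M where
  toFun m := (m, d m)
  map_add' m m' := Prod.ext rfl (map_add d _ _)
  map_smul' a m := by
    rw [smul_def]
    refine Prod.ext rfl ?_
    change d (a • m) = a • d m + θ a • m
    rw [hd, add_comm]

end Def

/-- The functor `M ↦ P(M)`. -/
def P : ModuleCat.{u} A ⥤ ModuleCat.{u} A where
  obj M := ModuleCat.of A (Tw θ M)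
  map f := ModuleCat.ofHom (Tw.map θ f.hom)
  map_id _ := rfl
  map_comp _ _ := rfl

instance : (P θ).Additive where
  map_add := rfl

/-- the projection `P(M) → M` -/
def q : P θ ⟶ 𝟭 _ where
  app M := ModuleCat.ofHom (Tw.fst θ)
  naturality _ _ _ := rfl

lemma map_exact (S : ShortComplex (ModuleCat.{u} A)) (hS : S.Exact) : (S.map (P θ)).Exact := by
  rw [ShortComplex.moduleCat_exact_iff] at hS ⊢
  intro (m : Tw θ S.X₂) hm
  have h1 : S.g.hom m.1 = 0 := congrArg (fun z : Tw θ S.X₃ => z.1) hm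
  have h2 : S.g.hom m.2 = 0 := congrArg (fun z : Tw θ S.X₃ => z.2) hm
  obtain ⟨x, hx⟩ := hS m.1 h1
  obtain ⟨y, hy⟩ := hS m.2 h2
  exact ⟨((x, y) : S.X₁ × S.X₁), Prod.ext hx hy⟩

instance : PreservesFiniteLimits (P θ) :=
  (((Functor.exact_tfae (P θ)).out 1 3 rfl rfl).mp (map_exact θ)).1

instance : PreservesFiniteColimits (P θ) :=
  (((Functor.exact_tfae (P θ)).out 1 3 rfl rfl).mp (map_exact θ)).2

/-- `0 → M → P(M) → M → 0`. -/
def ses (M : ModuleCat.{u} A) : ShortComplex (ModuleCat.{u} A) :=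
  ShortComplex.mk (X₁ := M) (X₂ := (P θ).obj M) (X₃ := M) (ModuleCat.ofHom (Tw.inr θ))
    (ModuleCat.ofHom (Tw.fst θ)) (by ext; rfl)

lemma ses_shortExact (M : ModuleCat.{u} A) : (ses θ M).ShortExact where
  exact := by
    rw [ShortComplex.moduleCat_exact_iff]
    intro (m : Tw θ M) hm
    exact ⟨m.2, Prod.ext (Eq.symm hm) rfl⟩
  mono_f := (ModuleCat.mono_iff_injective _).2 fun m m' h => congrArg (fun z : Tw θ M => z.2) h
  epi_g := (ModuleCat.epi_iff_surjective _).2 fun m => ⟨((m, 0) : M × M), rfl⟩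

variable {I : Ideal A} (T : LC I)

lemma effaceable : (T.D.precomp (P θ)).Effaceable := by
  intro J _ n
  have h := T.D.exact₂ (ses_shortExact θ J) (n + 1)
  have h1 : IsZero ((T.D.T (n + 1)).obj J) := T.eff J n
  exact h.isZero_of_both_zeros (h1.eq_of_src _ _) (h1.eq_of_tgt _ _)

lemma mem_gam_snd {M : Type u} [AddCommGroup M] [Module A M] (m : Tw θ M) (hm : m ∈ gam I (Tw θ M)) :
    m.1 ∈ gam I M ∧ m.2 ∈ gam I M := by
  obtain ⟨n, hn⟩ := hm
  have h1 : ∀ a ∈ I ^ n, a • m.1 = 0 := fun a ha => congrArg (fun z : Tw θ M => z.1) (hn a ha)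
  have h2 : ∀ a ∈ I ^ n, a • m.2 + θ a • m.1 = 0 := fun a ha =>
    congrArg (fun z : Tw θ M => z.2) (hn a ha)
  refine ⟨⟨n, h1⟩, n + n, fun a ha => ?_⟩
  rw [pow_add] at ha
  refine Submodule.mul_induction_on ha (fun x hx y hy => ?_) (fun x y hx hy => ?_)
  · have h3 := h2 y hy
    rw [mul_smul, eq_neg_of_add_eq_zero_left h3, smul_neg, smul_comm, h1 x hx, smul_zero, neg_zero]
  · rw [add_smul, hx, hy, add_zero]

/-- `Γ_I(P(M)) → P(Γ_I(M))`. -/
def gamP : P θ ⋙ gamFunctor.{u, u} I ⟶ gamFunctor.{u, u} I ⋙ P θ where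
  app M := ModuleCat.ofHom (X := gam I (Tw θ M)) (Y := Tw θ (gam I M))
    { toFun := fun m => ((⟨m.1.1, (mem_gam_snd θ m.1 m.2).1⟩, ⟨m.1.2, (mem_gam_snd θ m.1 m.2).2⟩) :
        gam I M × gam I M)
      map_add' := fun _ _ => rfl
      map_smul' := fun _ _ => rfl }
  naturality _ _ _ := rfl

/-- the degree zero comparison map -/
noncomputable def zeroMap : (T.D.precomp (P θ)).T 0 ⟶ (T.D.postcomp (P θ)).T 0 :=
  Functor.whiskerLeft (P θ) T.zero.hom ≫ gamP θ ≫ Functor.whiskerRight T.zero.inv (P θ)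

lemma zeroMap_q (M : ModuleCat.{u} A) :
    (zeroMap θ T).app M ≫ (q θ).app ((T.D.T 0).obj M) = (T.D.T 0).map ((q θ).app M) := by
  have h3 : (gamP θ (I := I)).app M ≫ (q θ).app ((gamFunctor.{u, u} I).obj M) =
      (gamFunctor.{u, u} I).map ((q θ).app M) := rfl
  exact abs1 ((q θ).naturality (T.zero.inv.app M)) h3 (T.zero.hom.naturality ((q θ).app M))
    (T.zero.hom_inv_id_app M)

/-- The comparison maps `T_n(P(M)) → P(T_n(M))`. -/
theorem exists_comparison (n : ℕ) (M : ModuleCat.{u} A) :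
    ∃ κ : (T.D.T n).obj ((P θ).obj M) ⟶ (P θ).obj ((T.D.T n).obj M),
      κ ≫ (q θ).app ((T.D.T n).obj M) = (T.D.T n).map ((q θ).app M) := by
  obtain ⟨Φ, hΦ⟩ := exists_deltaHom (T.D.precomp (P θ)) (T.D.postcomp (P θ)) (effaceable θ T)
    (zeroMap θ T)
  let Ψ₁ : DeltaHom (T.D.precomp (P θ)) T.D :=
    { app := fun n => Functor.whiskerRight (q θ) (T.D.T n)
      comm := fun {S} hS n => T.D.naturality (hS.map_of_exact (P θ)) hS
        { τ₁ := (q θ).app S.X₁
          τ₂ := (q θ).app S.X₂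
          τ₃ := (q θ).app S.X₃
          comm₁₂ := ((q θ).naturality S.f).symm
          comm₂₃ := ((q θ).naturality S.g).symm } n }
  let Ψ₂ : DeltaHom (T.D.precomp (P θ)) T.D :=
    { app := fun n => Φ.app n ≫ Functor.whiskerLeft (T.D.T n) (q θ)
      comm := fun {S} hS n => abs2 (Φ.comm hS n) ((q θ).naturality (T.D.δ hS n)) }
  have h0 : Ψ₁.app 0 = Ψ₂.app 0 := by
    ext M : 2
    change (T.D.T 0).map ((q θ).app M) = (Φ.app 0).app M ≫ (q θ).app ((T.D.T 0).obj M)
    rw [hΦ, zeroMap_q]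
  have h := DeltaHom.ext_zero (effaceable θ T) Ψ₁ Ψ₂ h0 n
  exact ⟨(Φ.app n).app M, (NatTrans.congr_app h M).symm⟩

/-- A Leibniz operator on `M` induces one on `T_n(M)`. -/
theorem exists_operator (n : ℕ) (M : ModuleCat.{u} A) (d : M →+ M)
    (hd : ∀ (a : A) (m : M), d (a • m) = θ a • m + a • d m) :
    ∃ D : T.obj n M →+ T.obj n M, ∀ (a : A) (ξ : T.obj n M), D (a • ξ) = θ a • ξ + a • D ξ := by
  obtain ⟨κ, hκ⟩ := exists_comparison θ T n M
  let s : M ⟶ (P θ).obj M := ModuleCat.ofHom (Tw.sec θ d hd)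
  let y : T.obj n M →ₗ[A] Tw θ (T.obj n M) := κ.hom.comp ((T.D.T n).map s).hom
  have hy : ∀ ξ, (y ξ).1 = ξ := by
    intro ξ
    have h1 : (T.D.T n).map s ≫ (T.D.T n).map ((q θ).app M) = 𝟙 _ := by
      rw [← Functor.map_comp]
      exact (T.D.T n).map_id M
    have h2 : (T.D.T n).map s ≫ κ ≫ (q θ).app ((T.D.T n).obj M) = 𝟙 _ := by rw [hκ, h1]
    exact ConcreteCategory.congr_hom h2 ξ
  refine ⟨{ toFun := fun ξ => (y ξ).2
            map_zero' := by rw [map_zero]; rfl
            map_add' := fun a b => by rw [map_add]; rfl }, fun a ξ => ?_⟩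
  change (y (a • ξ)).2 = θ a • ξ + a • (y ξ).2
  rw [map_smul, smul_def]
  change a • (y ξ).2 + θ a • (y ξ).1 = _
  rw [hy, add_comm]

end K165.TwP
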